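import Cfsg.Agent.SymHall.Main

/-!
# Alternating groups without the full Sylow analogue
-/

set_option autoImplicit false

namespace Cfsg.Lib.SymHall

open Equiv Equiv.Perm

variable {n : ℕ} {π : Set ℕ}

theorem not_pairStab_seven : ∀ B ∈ (Finset.univ : Finset (Fin 7)).powersetCard 4,
    ¬ ((∀ a b, ((swap 0 1 * swap 1 2 * (swap 3 4 * swap 4 5) : Perm (Fin 7)) a ∈ B ↔
          (swap 0 1 * swap 1 2 * (swap 3 4 * swap 4 5) : Perm (Fin 7)) b ∈ B) ↔ (a ∈ B ↔ b ∈ B)) ∧
      ∀ a b, ((swap 0 3 * swap 1 4 : Perm (Fin 7)) a ∈ B ↔ (swap 0 3 * swap 1 4 : Perm (Fin 7)) b ∈ B) ↔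
        (a ∈ B ↔ b ∈ B)) := by
  decide +kernel

theorem not_pairStab_eight : ∀ B ∈ (Finset.univ : Finset (Fin 8)).powersetCard 4,
    ¬ ((∀ a b, ((swap 0 1 * swap 1 2 * (swap 3 4 * swap 4 5) : Perm (Fin 8)) a ∈ B ↔
          (swap 0 1 * swap 1 2 * (swap 3 4 * swap 4 5) : Perm (Fin 8)) b ∈ B) ↔ (a ∈ B ↔ b ∈ B)) ∧
      ∀ a b, ((swap 0 3 * swap 1 4 : Perm (Fin 8)) a ∈ B ↔ (swap 0 3 * swap 1 4 : Perm (Fin 8)) b ∈ B) ↔
        (a ∈ B ↔ b ∈ B)) := by
  decide +kernel

/-- The relation on six points with classes `{i, i+3}`. -/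
def pairs6 : Setoid (Fin 6) where
  r a b := (a : ℕ) % 3 = (b : ℕ) % 3
  iseqv := ⟨fun _ => rfl, Eq.symm, Eq.trans⟩

instance : DecidableRel pairs6.r := fun a b => inferInstanceAs (Decidable ((a : ℕ) % 3 = (b : ℕ) % 3))

theorem card_relStab_pairs6 : Nat.card (relStab pairs6.r) ∣ 48 :=
  (card_relStab_uniform pairs6 (b := 2) (k := 3) rfl (by omega) (by decide +kernel)).trans (by decide)

/-- A `π`-subgroup of the alternating group not inside any pair stabiliser. -/
theorem exists_pi_not_le {b : ℕ} (h : Outcome π n b) (hn : 5 ≤ n) :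
    ∃ P : Subgroup (alternatingGroup (Fin n)), Cfsg.IsPiSubgroup π P ∧
      ∀ B : Finset (Fin n), B.card = b → ∃ x ∈ P, (x : Perm (Fin n)) ∉ pairStab B := by
  obtain ⟨-, ⟨hpr, hb, hpi⟩ | ⟨h78, hb, hpi⟩⟩ := h
  · let T : Finset (Fin n) := {⟨0, by omega⟩, ⟨1, by omega⟩}
    have hT : T.card = 2 := Finset.card_pair (by simp [Fin.ext_iff])
    have hTc : Tᶜ.card = n - 2 := by rw [Finset.card_compl, hT, Fintype.card_fin]
    refine ⟨(setStab T).subgroupOf (alternatingGroup (Fin n)), fun p hp hd => ?_, fun B hB => ?_⟩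
    · have hd' := hd.trans ((setStab T).card_comap_dvd_of_injective (alternatingGroup (Fin n)).subtype
        (Subgroup.subtype_injective _))
      rw [card_setStab, Fintype.card_fin, hT] at hd'
      have := hp.two_le
      rcases hp.dvd_mul.1 hd' with e | e <;> have := hp.dvd_factorial.1 e <;>
        exact (hpi p hp (by omega)).2 (by omega)
    · have hBc : Bᶜ.card = 1 := by rw [Finset.card_compl, hB, Fintype.card_fin]; omega
      obtain ⟨z, hz⟩ := Finset.card_eq_one.1 hBc
      have hzB : ∀ a, a ∉ B ↔ a = z := fun a => by rw [← Finset.mem_compl, hz, Finset.mem_singleton]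
      have hfix : ∀ g ∈ pairStab B, g z = z := by
        intro g hg
        by_cases hs : g ∈ setStab B
        · exact (hzB _).1 fun h => (hzB z).2 rfl ((mem_setStab.1 hs z).1 h)
        · exfalso
          obtain ⟨a, ha, a', ha', hne⟩ := Finset.one_lt_card.1 (show 1 < B.card by omega)
          have h1 := (hzB (g a)).1 fun h => (swap_of_not_mem hg hs a).1 h ha
          have h2 := (hzB (g a')).1 fun h => (swap_of_not_mem hg hs a').1 h ha'
          exact hne (g.injective (h1.trans h2.symm))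
      have hside : ∃ z', z' ≠ z ∧ (z' ∈ T ↔ z ∈ T) := by
        by_cases hzT : z ∈ T
        · obtain ⟨z', h1, h2⟩ := Finset.exists_mem_ne (show 1 < T.card by omega) z
          exact ⟨z', h2, iff_of_true h1 hzT⟩
        · obtain ⟨z', h1, h2⟩ := Finset.exists_mem_ne (show 1 < Tᶜ.card by omega) z
          exact ⟨z', h2, iff_of_false (Finset.mem_compl.1 h1) hzT⟩
      obtain ⟨z', hne, hzz'⟩ := hside
      obtain ⟨u, v, huv, hu, hv⟩ : ∃ u v, u ≠ v ∧ (u ∈ T ↔ z ∉ T) ∧ (v ∈ T ↔ z ∉ T) := by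
        by_cases hzT : z ∈ T
        · obtain ⟨u, hu, v, hv, huv⟩ := Finset.one_lt_card.1 (show 1 < Tᶜ.card by omega)
          exact ⟨u, v, huv, by simpa [hzT] using hu, by simpa [hzT] using hv⟩
        · obtain ⟨u, hu, v, hv, huv⟩ := Finset.one_lt_card.1 (show 1 < T.card by omega)
          exact ⟨u, v, huv, by simpa [hzT] using hu, by simpa [hzT] using hv⟩
      have hsw : ∀ a a', (a ∈ T ↔ a' ∈ T) → swap a a' ∈ setStab T := fun a a' h => mem_setStab.2 fun x => by
        rcases eq_or_ne x a with rfl | h1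
        · rw [swap_apply_left]; exact h.symm
        rcases eq_or_ne x a' with rfl | h2
        · rw [swap_apply_right]; exact h
        · rw [swap_apply_of_ne_of_ne h1 h2]
      have hzu : z ≠ u := fun e => by subst e; tauto
      have hzv : z ≠ v := fun e => by subst e; tauto
      refine ⟨⟨swap z z' * swap u v, mem_alternatingGroup.2 (by
          rw [map_mul, sign_swap hne.symm, sign_swap huv]; decide)⟩,
        mul_mem (hsw z z' hzz'.symm) (hsw u v (hu.trans hv.symm)), fun h => hne ?_⟩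
      have := hfix _ h
      rwa [Perm.mul_apply, swap_apply_of_ne_of_ne hzu hzv, swap_apply_left] at this
  · have h6 : 6 ≤ n := by omega
    let f : Fin 6 ↪ Fin n := Fin.castLEEmb h6
    let P₀ : Subgroup (Perm (Fin n)) := (relStab pairs6.r ⊓ alternatingGroup (Fin 6)).map (viaEmbeddingHom f)
    have hP₀ : ∀ t ∈ relStab pairs6.r ⊓ alternatingGroup (Fin 6),
        viaEmbeddingHom f t ∈ alternatingGroup (Fin n) ∧ viaEmbeddingHom f t ∈ P₀ := by
      intro t ht
      refine ⟨?_, ⟨t, ht, rfl⟩⟩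
      rw [mem_alternatingGroup]
      have := mem_alternatingGroup.1 ht.2
      simpa [viaEmbeddingHom_apply, viaEmbedding, sign_extendDomain] using this
    refine ⟨P₀.subgroupOf (alternatingGroup (Fin n)), fun p hp hd => ?_, fun B hB => ?_⟩
    · have h48 : p ∣ 2 ^ 4 * 3 :=
        ((hd.trans (P₀.card_comap_dvd_of_injective (alternatingGroup (Fin n)).subtype
          (Subgroup.subtype_injective _))).trans ((Subgroup.card_map_dvd _ _).trans
          ((Subgroup.card_dvd_of_le inf_le_left).trans card_relStab_pairs6))).trans (by decide)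
      rcases hp.dvd_mul.1 h48 with e | e
      · have := (Nat.prime_dvd_prime_iff_eq hp Nat.prime_two).1 (hp.dvd_of_dvd_pow e)
        exact (hpi p hp (by omega)).2 (Or.inl this)
      · have := (Nat.prime_dvd_prime_iff_eq hp Nat.prime_three).1 e
        exact (hpi p hp (by omega)).2 (Or.inr this)
    · have h1 := hP₀ (swap 0 1 * swap 1 2 * (swap 3 4 * swap 4 5))
        ⟨by show ∀ a b, _ ↔ _; decide +kernel, mem_alternatingGroup.2 (by decide +kernel)⟩
      have h2 := hP₀ (swap 0 3 * swap 1 4)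
        ⟨by show ∀ a b, _ ↔ _; decide +kernel, mem_alternatingGroup.2 (by decide +kernel)⟩
      by_contra hno
      push Not at hno
      have e1 := hno ⟨_, h1.1⟩ h1.2
      have e2 := hno ⟨_, h2.1⟩ h2.2
      simp only [map_mul, viaEmbeddingHom_swap, mem_relStab] at e1 e2
      have hmem : B ∈ (Finset.univ : Finset (Fin n)).powersetCard 4 :=
        Finset.mem_powersetCard.2 ⟨Finset.subset_univ _, hB.trans hb⟩
      rcases h78 with rfl | rfl
      · exact not_pairStab_seven B hmem ⟨e1, e2⟩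
      · exact not_pairStab_eight B hmem ⟨e1, e2⟩

/-- No full Sylow analogue in the non-trivial case. -/
theorem not_isDPiGroup_alt (hn : 5 ≤ n) (h : ¬ TrivPrimes π n) :
    ¬ Cfsg.IsDPiGroup π (alternatingGroup (Fin n)) := by
  intro hD
  obtain ⟨M, hM⟩ := Cfsg.Agent.S3878.E_of_D hD
  obtain ⟨B, -, rfl, hout⟩ := alt_hall_lift h hM
  obtain ⟨P, hP, hPB⟩ := exists_pi_not_le hout hn
  obtain ⟨K, hPK, hK⟩ := exists_maximal_ge hP
  obtain ⟨g, rfl⟩ := hD _ K (maximal_of_hall hM) hK
  obtain ⟨x, hx, hxB⟩ := hPB (B.map (g : Perm (Fin n)).toEmbedding) (Finset.card_map _)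
  refine hxB ?_
  have h' := hPK hx
  rw [Subgroup.mem_map_equiv, MulAut.conj_symm_apply, Subgroup.mem_subgroupOf] at h'
  simp only [Subgroup.coe_mul, Subgroup.coe_inv, mem_relStab, Perm.mul_apply] at h' ⊢
  intro a c
  have := h' ((g : Perm (Fin n))⁻¹ a) ((g : Perm (Fin n))⁻¹ c)
  simpa [Finset.mem_map_equiv] using this

end Cfsg.Lib.SymHall
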