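import Cfsg.Agent.S3878
import Cfsg.Agent.S4309
import Cfsg.Agent.Coprime.Hall

/-!
# Generalities on Hall classes
-/

set_option autoImplicit false

namespace Cfsg.Lib.SymHall

variable {G : Type*} [Group G] [Finite G] {π : Set ℕ}

theorem hall_eq_of_le {H K : Subgroup G} (hH : Cfsg.IsPiHall π H) (hHK : H ≤ K)
    (hK : Cfsg.IsPiSubgroup π K) : H = K := by
  refine le_antisymm hHK ?_
  rw [← Subgroup.relIndex_eq_one, Nat.eq_one_iff_not_exists_prime_dvd]
  intro p hp hd
  exact hH.2 p hp (hK p hp (hd.trans (Subgroup.relIndex_dvd_card _ _)))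
    (hd.trans (Dvd.intro _ (Subgroup.relIndex_mul_index hHK)))

theorem maximal_of_hall {H : Subgroup G} (hH : Cfsg.IsPiHall π H) : Maximal (Cfsg.IsPiSubgroup π) H :=
  ⟨hH.1, fun _ hK hle => (hall_eq_of_le hH hle hK).ge⟩

theorem exists_maximal_ge {K : Subgroup G} (hK : Cfsg.IsPiSubgroup π K) :
    ∃ L, K ≤ L ∧ Maximal (Cfsg.IsPiSubgroup π) L :=
  (Set.toFinite {L : Subgroup G | Cfsg.IsPiSubgroup π L}).exists_le_maximal hK

theorem isCPiGroup_of_isDPiGroup (h : Cfsg.IsDPiGroup π G) : Cfsg.IsCPiGroup π G :=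
  ⟨Cfsg.Agent.S3878.E_of_D h, fun H K hH hK => h H K (maximal_of_hall hH) (maximal_of_hall hK)⟩

/-- The trivial cases: at most one prime of `π` divides the order, or all do. -/
theorem isDPiGroup_of_trivial
    (h : (∀ r s : ℕ, r.Prime → s.Prime → r ∈ π → s ∈ π → r ∣ Nat.card G → s ∣ Nat.card G → r = s) ∨
      ∀ r : ℕ, r.Prime → r ∣ Nat.card G → r ∈ π) : Cfsg.IsDPiGroup π G := by
  intro H K hH hK
  rcases h with hone | hall
  · by_cases hex : ∃ s, s.Prime ∧ s ∈ π ∧ s ∣ Nat.card G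
    · obtain ⟨s, hs, hsπ, hsG⟩ := hex
      haveI := Fact.mk hs
      have hpg : ∀ L : Subgroup G, Cfsg.IsPiSubgroup π L ↔ IsPGroup s L := by
        intro L
        constructor
        · intro hL
          refine IsPGroup.of_card (n := (Nat.card L).primeFactorsList.length) ?_
          exact Nat.eq_prime_pow_of_unique_prime_dvd Nat.card_pos.ne' fun {t} ht htd =>
            hone t s ht hs (hL t ht htd) hsπ (htd.trans L.card_subgroup_dvd_card) hsG
        · intro hL t ht htd
          obtain ⟨k, hk⟩ := IsPGroup.iff_card.1 hL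
          rw [hk] at htd
          exact (Nat.prime_dvd_prime_iff_eq ht hs).1 (ht.dvd_of_dvd_pow htd) ▸ hsπ
      let P : Sylow s G := ⟨H, (hpg H).1 hH.prop, fun {Q} hQ hle =>
        le_antisymm (hH.le_of_ge ((hpg Q).2 hQ) hle) hle⟩
      let P' : Sylow s G := ⟨K, (hpg K).1 hK.prop, fun {Q} hQ hle =>
        le_antisymm (hK.le_of_ge ((hpg Q).2 hQ) hle) hle⟩
      obtain ⟨g, hg⟩ := MulAction.exists_smul_eq G P P'
      exact ⟨g, (congrArg (fun T : Sylow s G => (T : Subgroup G)) hg).symm.trans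
        (Cfsg.Lib.Transfer.sylow_smul_coe g P)⟩
    · push Not at hex
      have : ∀ L : Subgroup G, Maximal (Cfsg.IsPiSubgroup π) L → L = ⊥ := fun L hL =>
        L.eq_bot_of_card_eq (Nat.eq_one_iff_not_exists_prime_dvd.2 fun s hs hd =>
          hex s hs (hL.prop s hs hd) (hd.trans L.card_subgroup_dvd_card))
      exact ⟨1, by rw [this H hH, this K hK, Subgroup.map_bot]⟩
  · have : ∀ L : Subgroup G, Maximal (Cfsg.IsPiSubgroup π) L → L = ⊤ := fun L hL =>
      top_le_iff.1 (hL.le_of_ge (fun s hs hd => hall s hs (by rwa [Subgroup.card_top] at hd)) le_top)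
    exact ⟨1, by rw [this H hH, this K hK, Subgroup.map_top_of_surjective _ (MulAut.conj (1 : G)).surjective]⟩

/-- A Hall subgroup meets a normal subgroup in a Hall subgroup. -/
theorem isPiHall_subgroupOf {H : Subgroup G} (hH : Cfsg.IsPiHall π H) (A : Subgroup G) [A.Normal] :
    Cfsg.IsPiHall π (H.subgroupOf A) := by
  have := (Cfsg.Agent.S4309.result π H A hH).1
  rwa [Subgroup.inf_subgroupOf_right] at this

end Cfsg.Lib.SymHall
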