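import Mathlib

/-!
# Stabilisers of partitions in symmetric groups
-/

set_option autoImplicit false
set_option linter.unusedSectionVars false
set_option linter.style.haveILetI false

namespace Cfsg.Lib.SymHall

open Equiv Equiv.Perm

variable {α : Type*}

/-- The permutations preserving a relation. -/
def relStab (r : α → α → Prop) : Subgroup (Perm α) where
  carrier := {g | ∀ a b, r (g a) (g b) ↔ r a b}
  one_mem' := fun _ _ => Iff.rfl
  mul_mem' := fun {g h} hg hh a b => (hg (h a) (h b)).trans (hh a b)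
  inv_mem' := fun {g} hg a b => by
    have := hg (g⁻¹ a) (g⁻¹ b)
    simpa using this.symm

theorem mem_relStab {r : α → α → Prop} {g : Perm α} :
    g ∈ relStab r ↔ ∀ a b, r (g a) (g b) ↔ r a b := Iff.rfl

/-- The permutations fixing a function. -/
def fibStab {ι : Type*} (f : α → ι) : Subgroup (Perm α) where
  carrier := {g | f ∘ g = f}
  one_mem' := rfl
  mul_mem' := fun {g h} hg hh => by
    show (f ∘ g) ∘ h = f
    rw [show f ∘ g = f from hg]; exact hh
  inv_mem' := fun {g} hg => by
    show f ∘ (g⁻¹ : Perm α) = f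
    funext a
    have := congrFun hg (g⁻¹ a)
    simpa using this.symm

theorem mem_fibStab {ι : Type*} {f : α → ι} {g : Perm α} : g ∈ fibStab f ↔ ∀ a, f (g a) = f a :=
  funext_iff

variable [Fintype α] [DecidableEq α]

theorem card_fibStab {ι : Type*} [Fintype ι] [DecidableEq ι] (f : α → ι) :
    Nat.card (fibStab f) = ∏ i, (Fintype.card {a // f a = i}).factorial := by
  rw [← DomMulAct.stabilizer_card f, ← Nat.card_eq_fintype_card]
  rfl

/-- The action on the classes. -/
def quotPerm (s : Setoid α) : relStab s.r →* Perm (Quotient s) where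
  toFun g :=
    { toFun := Quotient.map (g : Perm α) fun a b h => (g.2 a b).2 h
      invFun := Quotient.map ((g : Perm α)⁻¹ : Perm α) fun a b h => ((relStab s.r).inv_mem g.2 a b).2 h
      left_inv := fun q => Quotient.inductionOn q fun a => congrArg (Quotient.mk s) (by simp)
      right_inv := fun q => Quotient.inductionOn q fun a => congrArg (Quotient.mk s) (by simp) }
  map_one' := Equiv.ext fun q => Quotient.inductionOn q fun _ => rfl
  map_mul' g h := Equiv.ext fun q => Quotient.inductionOn q fun _ => rfl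

theorem card_relStab_dvd (s : Setoid α) [DecidableRel s.r] :
    Nat.card (relStab s.r) ∣
      (∏ q : Quotient s, (Fintype.card {a // Quotient.mk s a = q}).factorial) *
        (Fintype.card (Quotient s)).factorial := by
  classical
  rw [← Subgroup.card_mul_index (quotPerm s).ker, Subgroup.index_ker]
  refine Nat.mul_dvd_mul ?_ ?_
  · rw [← card_fibStab (Quotient.mk s)]
    refine Subgroup.card_dvd_of_injective
      (MonoidHom.mk' (fun g : (quotPerm s).ker => (⟨((g : relStab s.r) : Perm α), mem_fibStab.2 fun a =>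
        (Equiv.congr_fun g.2 (Quotient.mk s a) :)⟩ : fibStab (Quotient.mk s))) fun _ _ => rfl) ?_
    intro g h e
    exact Subtype.ext (Subtype.ext (congrArg Subtype.val e :))
  · refine (Subgroup.card_subgroup_dvd_card (quotPerm s).range).trans (dvd_of_eq ?_)
    rw [Nat.card_perm, Nat.card_eq_fintype_card]

/-- The stabiliser of a partition into classes of size `b`. -/
theorem card_relStab_uniform (s : Setoid α) [DecidableRel s.r] {b k : ℕ} (hk : b * k = Fintype.card α)
    (hb0 : 1 ≤ b) (hb : ∀ a : α, (Finset.univ.filter fun x => s.r a x).card = b) :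
    Nat.card (relStab s.r) ∣ b.factorial ^ k * k.factorial := by
  have hfib : ∀ q : Quotient s, Fintype.card {a // Quotient.mk s a = q} = b := by
    refine Quotient.ind fun a => ?_
    rw [Fintype.card_subtype, ← hb a]
    congr 1
    ext x
    simp only [Finset.mem_filter, Finset.mem_univ, true_and]
    exact ⟨fun h => s.iseqv.symm (Quotient.exact h), fun h => Quotient.sound (s.iseqv.symm h)⟩
  have hq : Fintype.card (Quotient s) = k := by
    have h1 := Fintype.card_congr (Equiv.sigmaFiberEquiv (Quotient.mk s))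
    rw [Fintype.card_sigma, Finset.sum_congr rfl (fun q _ => hfib q), Finset.sum_const, Finset.card_univ,
      smul_eq_mul, ← hk, mul_comm] at h1
    exact Nat.eq_of_mul_eq_mul_left hb0 h1
  refine (card_relStab_dvd s).trans (dvd_of_eq ?_)
  rw [Finset.prod_congr rfl (fun q _ => by rw [hfib q]), Finset.prod_const, Finset.card_univ, hq]

/-- Two layers of uniform classes. -/
theorem two_layer_dvd_index (s : Setoid α) [DecidableRel s.r] (K : Subgroup (Perm α))
    (hK : K ≤ relStab s.r) (U₁ U₂ : Finset α) (hd : Disjoint U₁ U₂)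
    (h₁ : ∀ g ∈ K, ∀ a, g a ∈ U₁ ↔ a ∈ U₁) (h₂ : ∀ g ∈ K, ∀ a, g a ∈ U₂ ↔ a ∈ U₂)
    (hs₁ : ∀ a b, s.r a b → a ∈ U₁ → b ∈ U₁) (hs₂ : ∀ a b, s.r a b → a ∈ U₂ → b ∈ U₂)
    {b₁ k₁ G₁ b₂ k₂ G₂ : ℕ} (hb₁ : 1 ≤ b₁) (hb₂ : 1 ≤ b₂)
    (hu₁ : b₁ * k₁ = U₁.card) (hu₂ : b₂ * k₂ = U₂.card)
    (hc₁ : ∀ a ∈ U₁, (Finset.univ.filter fun x => s.r a x).card = b₁)
    (hc₂ : ∀ a ∈ U₂, (Finset.univ.filter fun x => s.r a x).card = b₂)
    (hG₁ : b₁.factorial ^ k₁ * k₁.factorial * G₁ = (b₁ * k₁).factorial)
    (hG₂ : b₂.factorial ^ k₂ * k₂.factorial * G₂ = (b₂ * k₂).factorial) :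
    G₁ * G₂ * (U₁.card + U₂.card).choose U₂.card *
      (Fintype.card α).choose (U₁.card + U₂.card) ∣ K.index := by
  classical
  set P₁ : α → Prop := fun a => a ∈ U₁
  set P₂ : α → Prop := fun a => a ∈ U₂
  set P₃ : α → Prop := fun a => a ∉ U₁ ∧ a ∉ U₂
  have h₃ : ∀ g ∈ K, ∀ a, P₃ (g a) ↔ P₃ a := fun g hg a => by
    simp only [P₃, h₁ g hg, h₂ g hg]
  let s₁ : Setoid {a // P₁ a} := Setoid.comap Subtype.val s
  let s₂ : Setoid {a // P₂ a} := Setoid.comap Subtype.val s
  let ψ : K →* relStab s₁.r × relStab s₂.r × Perm {a // P₃ a} := MonoidHom.mk' (fun g =>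
    (⟨(g : Perm α).subtypePerm (h₁ g g.2), fun a b => hK g.2 (a : α) (b : α)⟩,
     ⟨(g : Perm α).subtypePerm (h₂ g g.2), fun a b => hK g.2 (a : α) (b : α)⟩,
     (g : Perm α).subtypePerm (h₃ g g.2))) (fun _ _ => rfl)
  have hinj : Function.Injective ψ := by
    intro g h e
    refine Subtype.ext (Equiv.ext fun a => ?_)
    by_cases ha₁ : a ∈ U₁
    · exact congrArg Subtype.val (Equiv.congr_fun (congrArg (fun z => (z.1 : Perm {a // P₁ a})) e) ⟨a, ha₁⟩)
    by_cases ha₂ : a ∈ U₂
    · exact congrArg Subtype.val (Equiv.congr_fun (congrArg (fun z => (z.2.1 : Perm {a // P₂ a})) e) ⟨a, ha₂⟩)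
    · exact congrArg Subtype.val (Equiv.congr_fun (congrArg (fun z => z.2.2) e) ⟨a, ha₁, ha₂⟩)
  have hclass : ∀ (U : Finset α) (b : ℕ) (hsat : ∀ a c, s.r a c → a ∈ U → c ∈ U)
      (hc : ∀ a ∈ U, (Finset.univ.filter fun x => s.r a x).card = b) (a : {a // a ∈ U}),
      (Finset.univ.filter fun x : {a // a ∈ U} => s.r (a : α) (x : α)).card = b := by
    intro U b hsat hc a
    rw [← hc a a.2, ← Finset.card_map (Function.Embedding.subtype _)]
    congr 1
    ext x
    simp only [Finset.mem_map, Finset.mem_filter, Finset.mem_univ, true_and, Function.Embedding.coe_subtype]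
    exact ⟨fun ⟨y, hy, e⟩ => e ▸ hy, fun h => ⟨⟨x, hsat a x h a.2⟩, h, rfl⟩⟩
  have hX₁ : Nat.card (relStab s₁.r) ∣ b₁.factorial ^ k₁ * k₁.factorial :=
    card_relStab_uniform s₁ (by rw [hu₁, Fintype.card_coe]) hb₁ (hclass U₁ b₁ hs₁ hc₁)
  have hX₂ : Nat.card (relStab s₂.r) ∣ b₂.factorial ^ k₂ * k₂.factorial :=
    card_relStab_uniform s₂ (by rw [hu₂, Fintype.card_coe]) hb₂ (hclass U₂ b₂ hs₂ hc₂)
  have hn3 : Fintype.card {a // P₃ a} + (U₁.card + U₂.card) = Fintype.card α := by
    rw [Fintype.card_subtype, ← Finset.card_union_of_disjoint hd,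
      show Finset.univ.filter P₃ = (U₁ ∪ U₂)ᶜ by ext x; simp [P₃], Finset.card_compl,
      Nat.sub_add_cancel (Finset.card_le_univ _)]
  set X := b₁.factorial ^ k₁ * k₁.factorial * (b₂.factorial ^ k₂ * k₂.factorial) *
    (Fintype.card {a // P₃ a}).factorial
  have hKX : Nat.card K ∣ X := by
    refine (Subgroup.card_dvd_of_injective ψ hinj).trans ?_
    rw [Nat.card_prod, Nat.card_prod, Nat.card_perm, Nat.card_eq_fintype_card (α := {a // P₃ a})]
    calc _ = Nat.card (relStab s₁.r) * Nat.card (relStab s₂.r) * (Fintype.card {a // P₃ a}).factorial := by ring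
      _ ∣ X := Nat.mul_dvd_mul_right (Nat.mul_dvd_mul hX₁ hX₂) _
  obtain ⟨m, hm⟩ := hKX
  have hfac : (Fintype.card α).factorial = X * (G₁ * G₂ * (U₁.card + U₂.card).choose U₂.card *
      (Fintype.card α).choose (U₁.card + U₂.card)) := by
    rw [← hn3, ← Nat.add_choose_mul_factorial_mul_factorial (Fintype.card {a // P₃ a}) (U₁.card + U₂.card),
      ← Nat.add_choose_mul_factorial_mul_factorial U₁.card U₂.card, ← hu₁, ← hu₂, ← hG₁, ← hG₂,
      ← Nat.choose_symm_add, ← Nat.choose_symm_add]
    simp only [X]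
    ring
  have hcard := Subgroup.card_mul_index K
  rw [Nat.card_perm, Nat.card_eq_fintype_card (α := α), hfac, hm, mul_assoc] at hcard
  exact ⟨m, (Nat.eq_of_mul_eq_mul_left Nat.card_pos hcard).trans (mul_comm _ _)⟩

/-- The permutations fixing a set. -/
def setStab (B : Finset α) : Subgroup (Perm α) := fibStab fun a => decide (a ∈ B)

theorem mem_setStab {B : Finset α} {g : Perm α} : g ∈ setStab B ↔ ∀ a, g a ∈ B ↔ a ∈ B := by
  rw [setStab, mem_fibStab]
  simp only [decide_eq_decide]

theorem card_setStab (B : Finset α) :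
    Nat.card (setStab B) = B.card.factorial * (Fintype.card α - B.card).factorial := by
  rw [setStab, card_fibStab, Fintype.prod_bool, Fintype.card_subtype, Fintype.card_subtype]
  simp only [decide_eq_true_eq, decide_eq_false_iff_not, Finset.filter_univ_mem]
  rw [← Finset.card_compl]
  congr 3
  ext x; simp

theorem index_setStab (B : Finset α) : (setStab B).index = (Fintype.card α).choose B.card := by
  have h := Subgroup.card_mul_index (setStab B)
  rw [card_setStab, Nat.card_perm, Nat.card_eq_fintype_card (α := α),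
    ← Nat.choose_mul_factorial_mul_factorial B.card_le_univ, mul_comm, ← mul_assoc] at h
  exact Nat.eq_of_mul_eq_mul_right (Nat.factorial_pos _) (Nat.eq_of_mul_eq_mul_right (Nat.factorial_pos _) h)

/-- The permutations preserving an unordered pair of complementary sets. -/
abbrev pairStab (B : Finset α) : Subgroup (Perm α) := relStab fun a b => (a ∈ B ↔ b ∈ B)

theorem setStab_le_pairStab (B : Finset α) : setStab B ≤ pairStab B := fun g hg a b => by
  simp only [mem_setStab.1 hg a, mem_setStab.1 hg b]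

theorem swap_of_not_mem {B : Finset α} {g : Perm α} (hg : g ∈ pairStab B) (hs : g ∉ setStab B) (a : α) :
    g a ∈ B ↔ a ∉ B := by
  rw [mem_setStab, not_forall] at hs
  obtain ⟨a₀, ha₀⟩ := hs
  have := hg a₀ a
  tauto

theorem relIndex_setStab (B : Finset α) : (setStab B).relIndex (pairStab B) ∣ 2 := by
  classical
  let χ : pairStab B →* ℤˣ := MonoidHom.mk' (fun g => if (g : Perm α) ∈ setStab B then 1 else -1) (by
    rintro ⟨g, hg⟩ ⟨h, hh⟩
    by_cases h1 : g ∈ setStab B <;> by_cases h2 : h ∈ setStab B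
    · simp [h1, h2, mul_mem h1 h2]
    · simp [h1, h2, (Subgroup.mul_mem_cancel_left _ h1)]
    · simp [h1, h2, (Subgroup.mul_mem_cancel_right _ h2)]
    · have : g * h ∈ setStab B := mem_setStab.2 fun a => by
        rw [Perm.mul_apply, swap_of_not_mem hg h1, swap_of_not_mem hh h2, not_not]
      simp [h1, h2, this])
  have hker : χ.ker = (setStab B).subgroupOf (pairStab B) := by
    ext g
    simp only [MonoidHom.mem_ker, Subgroup.mem_subgroupOf, χ, MonoidHom.mk'_apply]
    by_cases h : (g : Perm α) ∈ setStab B <;> simp [h]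
  rw [Subgroup.relIndex, ← hker, Subgroup.index_ker]
  refine (Subgroup.card_subgroup_dvd_card χ.range).trans ?_
  simp [Nat.card_eq_fintype_card, Fintype.card_units_int]

theorem index_pairStab_dvd (B : Finset α) :
    (pairStab B).index ∣ (Fintype.card α).choose B.card := by
  rw [← index_setStab, ← Subgroup.relIndex_mul_index (setStab_le_pairStab B)]
  exact dvd_mul_left _ _

theorem card_pairStab_dvd (B : Finset α) :
    Nat.card (pairStab B) ∣ 2 * (B.card.factorial * (Fintype.card α - B.card).factorial) := by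
  rw [← card_setStab B, ← Subgroup.relIndex_bot_left,
    ← Subgroup.relIndex_mul_relIndex ⊥ (setStab B) (pairStab B) bot_le (setStab_le_pairStab B),
    Subgroup.relIndex_bot_left, mul_comm]
  exact Nat.mul_dvd_mul_right (relIndex_setStab B) _

end Cfsg.Lib.SymHall
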