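import Cfsg.Agent.SymHall.Cycles
import Cfsg.Agent.SymHall.Counting
import Cfsg.Agent.PermGen.Jordan

/-!
# No Hall subgroups of odd order for two primes
-/

set_option autoImplicit false
set_option linter.unusedSectionVars false
set_option linter.style.haveILetI false

namespace Cfsg.Lib.SymHall

open Equiv Equiv.Perm MulAction
open scoped Pointwise

variable {α : Type*} [Fintype α] [DecidableEq α]

/-- Overlapping cycles of two different prime lengths generate a group of even order. -/
theorem overlap_even {x y : Perm α} {p q : ℕ} (hp : p.Prime) (hq : q.Prime) (hpq : p < q)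
    (hxc : x.IsCycle) (hyc : y.IsCycle) (hxs : x.support.card = p) (hys : y.support.card = q)
    (hmeet : ∃ a, a ∈ x.support ∧ a ∈ y.support) {M : Subgroup (Perm α)} (hx : x ∈ M) (hy : y ∈ M)
    (hodd : Odd (Nat.card M)) : False := by
  classical
  obtain ⟨a, hax, hay⟩ := hmeet
  set U := x.support ∪ y.support with hU
  have hm : U.card < p + q := by
    have h1 := Finset.card_union_add_card_inter x.support y.support
    rw [hxs, hys, ← hU] at h1
    have h2 : 0 < (x.support ∩ y.support).card := Finset.card_pos.2 ⟨a, Finset.mem_inter.2 ⟨hax, hay⟩⟩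
    omega
  set β := {b : α // b ∈ U}
  have hcardβ : Fintype.card β = U.card := Fintype.card_coe U
  have hstab : ∀ z : Perm α, z.support ⊆ U → z ∈ setStab U := fun z hz => mem_setStab.2 fun b => by
    by_cases hb : b ∈ z.support
    · exact iff_of_true (hz (apply_mem_support.2 hb)) (hz hb)
    · rw [notMem_support.1 hb]
  let ρ : setStab U →* Perm β := MonoidHom.mk'
    (fun g => (g : Perm α).subtypePerm (fun b => mem_setStab.1 g.2 b)) (fun _ _ => rfl)
  set Jx : setStab U := ⟨x, hstab x Finset.subset_union_left⟩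
  set Jy : setStab U := ⟨y, hstab y Finset.subset_union_right⟩
  set J : Subgroup (Perm β) := (M.subgroupOf (setStab U)).map ρ with hJ
  have hxJ : ρ Jx ∈ J := ⟨Jx, hx, rfl⟩
  have hyJ : ρ Jy ∈ J := ⟨Jy, hy, rfl⟩
  have hJodd : Odd (Nat.card J) := by
    refine hodd.of_dvd_nat ((Subgroup.card_map_dvd _ _).trans ?_)
    exact Subgroup.card_dvd_of_injective
      (MonoidHom.mk' (fun g : M.subgroupOf (setStab U) => (⟨((g : setStab U) : Perm α), g.2⟩ : M))
        fun _ _ => rfl) fun g h e => Subtype.ext (Subtype.ext (congrArg Subtype.val e :))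
  have hsup : ∀ z : setStab U, (z : Perm α).support ⊆ U →
      ((ρ z).support.map (Function.Embedding.subtype _)) = (z : Perm α).support := by
    intro z hz
    ext b
    simp only [Finset.mem_map, mem_support, Function.Embedding.coe_subtype]
    constructor
    · rintro ⟨c, hc, rfl⟩
      exact fun e => hc (Subtype.ext e)
    · intro hb
      exact ⟨⟨b, hz (mem_support.2 hb)⟩, fun e => hb (congrArg Subtype.val e), rfl⟩
  have hcyc : ∀ z : setStab U, (z : Perm α).support ⊆ U → (z : Perm α).IsCycle → (ρ z).IsCycle := by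
    intro z hz hzc
    obtain ⟨b, hb, hb'⟩ := hzc
    refine ⟨⟨b, hz (mem_support.2 hb)⟩, fun e => hb (congrArg Subtype.val e), fun c hc => ?_⟩
    obtain ⟨i, hi⟩ := hb' (y := (c : α)) fun e => hc (Subtype.ext e)
    refine ⟨i, Subtype.ext ?_⟩
    rw [← map_zpow, show (ρ (z ^ i) : Perm β) _ = _ from rfl]
    exact hi
  set X := ρ Jx with hXdef
  set Y := ρ Jy with hYdef
  have hXc : X.IsCycle := hcyc Jx Finset.subset_union_left hxc
  have hYc : Y.IsCycle := hcyc Jy Finset.subset_union_right hyc
  have hXs : X.support.card = p := by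
    rw [← Finset.card_map (Function.Embedding.subtype _), hsup Jx Finset.subset_union_left]; exact hxs
  have hYs : Y.support.card = q := by
    rw [← Finset.card_map (Function.Embedding.subtype _), hsup Jy Finset.subset_union_right]; exact hys
  set a₀ : β := ⟨a, Finset.mem_union_left _ hax⟩
  have haX : a₀ ∈ X.support := mem_support.2 fun e => mem_support.1 hax (congrArg Subtype.val e :)
  have haY : a₀ ∈ Y.support := mem_support.2 fun e => mem_support.1 hay (congrArg Subtype.val e :)
  have hcover : ∀ b : β, b ∈ X.support ∨ b ∈ Y.support := fun b => by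
    rcases Finset.mem_union.1 b.2 with h | h
    · exact Or.inl (mem_support.2 fun e => mem_support.1 h (congrArg Subtype.val e :))
    · exact Or.inr (mem_support.2 fun e => mem_support.1 h (congrArg Subtype.val e :))
  have htrans : IsPretransitive J β := by
    refine (MulAction.isPretransitive_iff_orbit_eq_univ a₀).2 (Set.eq_univ_of_forall fun b => ?_)
    rcases hcover b with h | h
    · obtain ⟨i, hi⟩ := hXc.sameCycle (mem_support.1 haX) (mem_support.1 h)
      exact ⟨⟨X ^ i, zpow_mem hxJ i⟩, hi⟩
    · obtain ⟨i, hi⟩ := hYc.sameCycle (mem_support.1 haY) (mem_support.1 h)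
      exact ⟨⟨Y ^ i, zpow_mem hyJ i⟩, hi⟩
  have hprim : IsPreprimitive J β := by
    haveI := htrans
    constructor
    intro B₀ hB₀
    by_contra htriv
    simp only [IsTrivialBlock, not_or, Set.not_subsingleton_iff] at htriv
    obtain ⟨⟨b₁, hb₁, b₂, hb₂, hb⟩, huniv⟩ := htriv
    obtain ⟨g, hg⟩ := exists_smul_eq J b₁ a₀
    set B := g • B₀ with hBdef
    have hB : IsBlock J B := hB₀.translate g
    have ha₀B : a₀ ∈ B := ⟨b₁, hb₁, hg⟩
    have hc₂ : g • b₂ ∈ B := Set.smul_mem_smul_set hb₂
    have hc12 : g • b₁ ≠ g • b₂ := fun e => hb (smul_left_cancel g e)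
    set Z : J := ⟨Y, hyJ⟩
    by_cases hfix : Z • B = B
    · have hsub : ↑Y.support ⊆ B := fun b hb' => by
        obtain ⟨i, hi⟩ := hYc.sameCycle (mem_support.1 haY) (mem_support.1 (Finset.mem_coe.1 hb'))
        have hYi : Z ^ i • B = B := (stabilizer J B).zpow_mem (mem_stabilizer_iff.2 hfix) i
        rw [← hi, ← hYi]
        exact ⟨a₀, ha₀B, rfl⟩
      have hBne : B ≠ Set.univ := fun e => huniv (by
        rw [← inv_smul_smul g B₀, ← hBdef, e, Set.smul_set_univ])
      obtain ⟨w, hw⟩ := (Set.ne_univ_iff_exists_notMem _).1 hBne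
      obtain ⟨k, hk⟩ := exists_smul_eq J a₀ w
      have hdis : _root_.Disjoint (k • B) B := (isBlock_iff_smul_eq_or_disjoint.1 hB k).resolve_left
        fun e => hw (e ▸ ⟨a₀, ha₀B, hk⟩)
      have h1 := Set.ncard_union_eq hdis (Set.toFinite _) (Set.toFinite _)
      have h2 := Set.ncard_le_ncard (Set.subset_univ (k • B ∪ B)) (Set.toFinite _)
      have h3 := Set.ncard_le_ncard hsub (Set.toFinite _)
      rw [Set.ncard_coe_finset, hYs] at h3
      rw [h1, Set.ncard_smul_set, Set.ncard_univ, Nat.card_eq_fintype_card, hcardβ] at h2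
      omega
    · have hdis : ∀ i j : Fin q, i ≠ j → _root_.Disjoint (Z ^ (i : ℕ) • B) (Z ^ (j : ℕ) • B) := by
        have key : ∀ i j : ℕ, i < j → j < q → _root_.Disjoint (Z ^ i • B) (Z ^ j • B) := by
          intro i j hij hj
          rcases isBlock_iff_smul_eq_smul_or_disjoint.1 hB (Z ^ i) (Z ^ j) with e | e
          · exfalso
            apply hfix
            have hst : Z ^ (j - i) ∈ stabilizer J B := by
              rw [mem_stabilizer_iff, pow_sub _ hij.le, (Commute.pow_pow_self Z j i).inv_right.eq, mul_smul, ← e,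
                inv_smul_smul]
            have hZo : orderOf Z = q := by
              rw [← Subgroup.orderOf_coe]; exact hYc.orderOf.trans hYs
            have hcop : (j - i).Coprime q :=
              ((Nat.Prime.coprime_iff_not_dvd hq).2 (Nat.not_dvd_of_pos_of_lt (by omega) (by omega))).symm
            obtain ⟨m, hm'⟩ := exists_pow_eq_self_of_coprime (x := Z) (n := j - i) (by rwa [hZo])
            rw [← hm']
            exact mem_stabilizer_iff.1 (pow_mem hst m)
          · exact e
        intro i j hij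
        rcases lt_or_gt_of_ne (fun e => hij (Fin.ext e) : (i : ℕ) ≠ j) with hl | hl
        · exact key i j hl j.2
        · exact (key j i hl i.2).symm
      let f : Fin q × Fin 2 → β := fun t => Z ^ (t.1 : ℕ) • (if t.2 = 0 then g • b₁ else g • b₂)
      have hfmem : ∀ t, f t ∈ Z ^ (t.1 : ℕ) • B := fun t => by
        refine Set.smul_mem_smul_set ?_
        split_ifs
        · rwa [hg]
        · exact hc₂
      have hf : Function.Injective f := by
        rintro ⟨i, u⟩ ⟨j, v⟩ e
        have hij : i = j := by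
          by_contra hij
          exact Set.disjoint_left.1 (hdis i j hij) (hfmem (i, u)) (e ▸ hfmem (j, v))
        subst hij
        have e' := smul_left_cancel _ e
        fin_cases u <;> fin_cases v <;> first | rfl | exact absurd e' hc12 | exact absurd e'.symm hc12
      have := Fintype.card_le_of_injective f hf
      rw [Fintype.card_prod, Fintype.card_fin, Fintype.card_fin, hcardβ] at this
      omega
  have hlt : X.support.card < Fintype.card β := by
    rw [hXs, hcardβ]
    exact hpq.trans_le (hys ▸ Finset.card_le_card Finset.subset_union_right)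
  have htr := Cfsg.Lib.PermGen.isMultiplyPretransitive_of_isCycle hprim hXc hxJ (hXs.symm ▸ hp) hlt
  obtain ⟨b, hb⟩ : ∃ b, X a₀ = b := ⟨_, rfl⟩
  have hba : b ≠ a₀ := hb ▸ mem_support.1 haX
  obtain ⟨g, hg, hgx⟩ := Cfsg.Lib.PermGen.exists_mem_eqOn htr (by have := hp.one_le; omega) {a₀, b}
    (by rw [Finset.card_pair hba.symm]; omega) (swap a₀ b)
  obtain ⟨m, hm'⟩ := hJodd
  have h2 : (g ^ 2) a₀ = a₀ := by
    rw [pow_two, Perm.mul_apply, hgx a₀ (by simp), swap_apply_left, hgx b (by simp), swap_apply_right]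
  have h1 : g ^ (2 * m + 1) = 1 := by
    have := Subgroup.orderOf_dvd_natCard J hg
    rw [hm'] at this
    exact orderOf_dvd_iff_pow_eq_one.1 this
  have h3 : g a₀ = a₀ := by
    have := congrArg (fun z : Perm β => z a₀) h1
    rwa [pow_succ', pow_mul, Perm.mul_apply, Perm.pow_apply_eq_self_of_apply_eq_self h2 m, Perm.one_apply] at this
  rw [hgx a₀ (by simp), swap_apply_left] at h3
  exact hba h3

/-- With two odd primes at most `n` in `π` and `2 ∉ π` there is no Hall `π`-subgroup. -/
theorem no_odd_hall {π : Set ℕ} {M : Subgroup (Perm α)} (hM : IsAltHall π M) (h2 : 2 ∉ π) {p q : ℕ}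
    (hp : p.Prime) (hq : q.Prime) (hpq : p < q) (hpπ : p ∈ π) (hqπ : q ∈ π)
    (hqn : q ≤ Fintype.card α) : False := by
  have hodd : Odd (Nat.card M) := Nat.not_even_iff_odd.1 fun h =>
    h2 (hM.pi 2 Nat.prime_two (even_iff_two_dvd.1 h))
  obtain ⟨σ, hσ, hC⟩ := exists_cycles hM hp (fun e => h2 (e ▸ hpπ)) hpπ (hpq.le.trans hqn)
  obtain ⟨τ, hτ, hD⟩ := exists_cycles hM hq (fun e => h2 (e ▸ hqπ)) hqπ hqn
  have hσp : p ≤ σ.support.card ∧ q ≤ τ.support.card := by
    constructor
    · obtain ⟨a, ha⟩ : σ.support.Nonempty := Finset.card_pos.1 (by omega)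
      obtain ⟨x, hx, -⟩ := exists_cycle_apply ha
      exact (hC x hx).2.2 ▸ Finset.card_le_card (mem_cycleFactorsFinset_support_le hx)
    · obtain ⟨a, ha⟩ : τ.support.Nonempty := Finset.card_pos.1 (by
        rcases eq_or_lt_of_le hqn with e | e <;> omega)
      obtain ⟨x, hx, -⟩ := exists_cycle_apply ha
      exact (hD x hx).2.2 ▸ Finset.card_le_card (mem_cycleFactorsFinset_support_le hx)
  obtain ⟨a, ha⟩ : (σ.support ∩ τ.support).Nonempty := by
    rw [Finset.nonempty_iff_ne_empty]
    intro he
    have h1 := Finset.card_union_of_disjoint (Finset.disjoint_iff_inter_eq_empty.2 he)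
    have h2 := Finset.card_le_univ (σ.support ∪ τ.support)
    omega
  obtain ⟨x, hxσ, hax⟩ := exists_cycle_apply (Finset.mem_inter.1 ha).1
  obtain ⟨y, hyτ, hay⟩ := exists_cycle_apply (Finset.mem_inter.1 ha).2
  obtain ⟨hxM, hxc, hxs⟩ := hC x hxσ
  obtain ⟨hyM, hyc, hys⟩ := hD y hyτ
  exact overlap_even hp hq hpq hxc hyc hxs hys ⟨a, hax, hay⟩ hxM hyM hodd

end Cfsg.Lib.SymHall
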