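import Cfsg.Agent.SymHall.Structure
import Cfsg.Agent.SymHall.OddCase
import Cfsg.Agent.SymHall.General

/-!
# Hall subgroups of symmetric and alternating groups
-/

set_option autoImplicit false

namespace Cfsg.Lib.SymHall

open Equiv Equiv.Perm

variable {n : ℕ} {π : Set ℕ}

/-- The trivial sets of primes. -/
def TrivPrimes (π : Set ℕ) (n : ℕ) : Prop :=
  (∀ r s : ℕ, r.Prime → s.Prime → r ∈ π → s ∈ π → r ≤ n → s ≤ n → r = s) ∨
    ∀ r : ℕ, r.Prime → r ≤ n → r ∈ π

/-- The two exceptional configurations, `b` being the size of a part. -/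
def Outcome (π : Set ℕ) (n b : ℕ) : Prop :=
  3 ≤ n ∧ ((n.Prime ∧ b + 1 = n ∧ ∀ r : ℕ, r.Prime → r ≤ n → (r ∈ π ↔ r < n)) ∨
    ((n = 7 ∨ n = 8) ∧ b = 4 ∧ ∀ r : ℕ, r.Prime → r ≤ n → (r ∈ π ↔ (r = 2 ∨ r = 3))))

theorem prime_le_of_dvd_card_perm {r : ℕ} (hr : r.Prime) (h : r ∣ Nat.card (Perm (Fin n))) : r ≤ n := by
  rw [Nat.card_perm, Nat.card_eq_fintype_card, Fintype.card_fin] at h
  exact hr.dvd_factorial.1 h

theorem prime_le_of_dvd_card_alt {r : ℕ} (hr : r.Prime) (h : r ∣ Nat.card (alternatingGroup (Fin n))) :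
    r ≤ n :=
  prime_le_of_dvd_card_perm hr (h.trans (Subgroup.card_subgroup_dvd_card _))

theorem dvd_card_alt (hn : 4 ≤ n) {r : ℕ} (hr : r.Prime) (hrn : r ≤ n) :
    r ∣ Nat.card (alternatingGroup (Fin n)) := by
  haveI : Nontrivial (Fin n) := Fin.nontrivial_iff_two_le.2 (by omega)
  have h := two_mul_nat_card_alternatingGroup (α := Fin n)
  rw [Nat.card_perm, Nat.card_eq_fintype_card (α := Fin n), Fintype.card_fin] at h
  rcases eq_or_ne r 2 with rfl | h2
  · have h4 : 2 * 2 ∣ 2 * Nat.card (alternatingGroup (Fin n)) :=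
      h ▸ (show 2 * 2 ∣ Nat.factorial 4 by decide).trans (Nat.factorial_dvd_factorial hn)
    exact Nat.dvd_of_mul_dvd_mul_left (by omega) h4
  · exact ((Nat.coprime_primes hr Nat.prime_two).2 h2).dvd_of_dvd_mul_left (h ▸ Nat.dvd_factorial hr.pos hrn)

theorem isDPiGroup_perm (h : TrivPrimes π n) : Cfsg.IsDPiGroup π (Perm (Fin n)) :=
  isDPiGroup_of_trivial (h.imp
    (fun h r s hr hs hrπ hsπ h1 h2 => h r s hr hs hrπ hsπ (prime_le_of_dvd_card_perm hr h1)
      (prime_le_of_dvd_card_perm hs h2))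
    fun h r hr hd => h r hr (prime_le_of_dvd_card_perm hr hd))

theorem isDPiGroup_alt (h : TrivPrimes π n) : Cfsg.IsDPiGroup π (alternatingGroup (Fin n)) :=
  isDPiGroup_of_trivial (h.imp
    (fun h r s hr hs hrπ hsπ h1 h2 => h r s hr hs hrπ hsπ (prime_le_of_dvd_card_alt hr h1)
      (prime_le_of_dvd_card_alt hs h2))
    fun h r hr hd => h r hr (prime_le_of_dvd_card_alt hr hd))

theorem three_le_of_not_triv (h : ¬ TrivPrimes π n) : 3 ≤ n := by
  by_contra hn
  refine h (Or.inl fun r s hr hs _ _ hrn hsn => ?_)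
  have := hr.two_le
  have := hs.two_le
  omega

theorem isAltHall_map (hn : 2 ≤ n) {M : Subgroup (alternatingGroup (Fin n))} (hM : Cfsg.IsPiHall π M) :
    IsAltHall π (M.map (alternatingGroup (Fin n)).subtype) := by
  haveI : Nontrivial (Fin n) := Fin.nontrivial_iff_two_le.2 hn
  have hidx : (M.map (alternatingGroup (Fin n)).subtype).index = M.index * 2 := by
    rw [Subgroup.index_map_subtype, alternatingGroup.index_eq_two]
  refine ⟨Subgroup.map_subtype_le _, fun p hp hd => hM.1 p hp ?_, fun p hp h2 hpπ hd => hM.2 p hp hpπ ?_,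
    fun h2 hd => hM.2 2 Nat.prime_two h2 ?_⟩
  · rwa [Subgroup.card_map_of_injective (Subgroup.subtype_injective _)] at hd
  · rw [hidx] at hd
    exact ((Nat.coprime_primes hp Nat.prime_two).2 h2).dvd_of_dvd_mul_right hd
  · rw [hidx] at hd
    exact Nat.dvd_of_mul_dvd_mul_right (by omega : 0 < 2) hd

/-- The Hall subgroups of the alternating group in the non-trivial case. -/
theorem alt_shape (h : ¬ TrivPrimes π n) {M : Subgroup (alternatingGroup (Fin n))} (hM : Cfsg.IsPiHall π M) :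
    ∃ B : Finset (Fin n), M.map (alternatingGroup (Fin n)).subtype = alternatingGroup (Fin n) ⊓ pairStab B ∧
      Subgroup.normalizer ((M.map (alternatingGroup (Fin n)).subtype : Subgroup (Perm (Fin n))) : Set (Perm (Fin n)))
        ≤ pairStab B ∧
      2 ∈ π ∧ Outcome π n B.card := by
  have hn := three_le_of_not_triv h
  have hM' := isAltHall_map (by omega) hM
  simp only [TrivPrimes, not_or, not_forall] at h
  obtain ⟨⟨r, s, hr, hs, hrπ, hsπ, hrn, hsn, hne⟩, t, ht, htn, htπ⟩ := h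
  have hc : Fintype.card (Fin n) = n := Fintype.card_fin n
  have h2 : 2 ∈ π := by
    by_contra h2
    rcases lt_or_gt_of_ne hne with hlt | hlt
    · exact no_odd_hall hM' h2 hr hs hlt hrπ hsπ (hc.symm ▸ hsn)
    · exact no_odd_hall hM' h2 hs hr hlt hsπ hrπ (hc.symm ▸ hrn)
  have h3 : 3 ∈ π := by
    rcases eq_or_ne r 2 with rfl | hr2
    · exact three_mem hM' h2 hs (Ne.symm hne) hsπ (hc.symm ▸ hsn)
    · exact three_mem hM' h2 hr hr2 hrπ (hc.symm ▸ hrn)
  obtain ⟨B, hB1, hB2, hB3⟩ := classify hM' h2 h3 (hc.symm ▸ hn) ⟨t, ht, hc.symm ▸ htn, htπ⟩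
  rw [hc] at hB3
  exact ⟨B, hB1, hB2, h2, hn, hB3⟩

theorem Outcome.two_le {b : ℕ} (h : Outcome π n b) : 2 ≤ b := by
  obtain ⟨hn, ⟨-, hb, -⟩ | ⟨-, hb, -⟩⟩ := h <;> omega

theorem Outcome.card_eq {b b' : ℕ} (h : Outcome π n b) (h' : Outcome π n b') : b = b' := by
  obtain ⟨hn, ⟨-, hb, hp⟩ | ⟨h78, hb, hp⟩⟩ := h <;> obtain ⟨-, ⟨hpr, hb', hp'⟩ | ⟨h78', hb', hp'⟩⟩ := h'
  · omega
  · have := (hp' 5 Nat.prime_five (by omega)).1 ((hp 5 Nat.prime_five (by omega)).2 (by omega))
    omega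
  · have := (hp 5 Nat.prime_five (by omega)).1 ((hp' 5 Nat.prime_five (by omega)).2 (by omega))
    omega
  · omega

theorem Outcome.pi_pairStab {B : Finset (Fin n)} (h : Outcome π n B.card) :
    Cfsg.IsPiSubgroup π (pairStab B) := by
  intro p hp hd
  have hd' := hd.trans (card_pairStab_dvd B)
  rw [Fintype.card_fin] at hd'
  have hle : p ≤ 2 ∨ p ≤ B.card ∨ p ≤ n - B.card := by
    rcases hp.dvd_mul.1 hd' with e | e
    · exact Or.inl (Nat.le_of_dvd (by omega) e)
    rcases hp.dvd_mul.1 e with e | e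
    · exact Or.inr (Or.inl (hp.dvd_factorial.1 e))
    · exact Or.inr (Or.inr (hp.dvd_factorial.1 e))
  have := hp.two_le
  obtain ⟨hn, ⟨hpr, hb, hpi⟩ | ⟨h78, hb, hpi⟩⟩ := h
  · exact (hpi p hp (by omega)).2 (by omega)
  · refine (hpi p hp (by omega)).2 ?_
    rcases (show p = 2 ∨ p = 3 ∨ p = 4 by omega) with e | e | e
    · exact Or.inl e
    · exact Or.inr e
    · subst e; exact absurd hp (by decide)

theorem eq_subgroupOf_of_map {G : Type*} [Group G] {A P : Subgroup G} {M : Subgroup A}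
    (h : M.map A.subtype = A ⊓ P) : M = P.subgroupOf A := by
  rw [← Subgroup.comap_map_eq_self_of_injective A.subtype_injective M, h]
  exact Subgroup.inf_subgroupOf_left _ _

/-- In the non-trivial case a Hall subgroup of `A` comes from one of `S`. -/
theorem alt_hall_lift (h : ¬ TrivPrimes π n) {M : Subgroup (alternatingGroup (Fin n))}
    (hM : Cfsg.IsPiHall π M) :
    ∃ B : Finset (Fin n), Cfsg.IsPiHall π (pairStab B) ∧
      M = (pairStab B).subgroupOf (alternatingGroup (Fin n)) ∧ Outcome π n B.card := by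
  obtain ⟨B, hB, -, h2, hout⟩ := alt_shape h hM
  have hn := three_le_of_not_triv h
  haveI : Nontrivial (Fin n) := Fin.nontrivial_iff_two_le.2 (by omega)
  refine ⟨B, ⟨hout.pi_pairStab, ?_⟩, eq_subgroupOf_of_map hB, hout⟩
  have hM' := isAltHall_map (by omega) hM
  set M' := M.map (alternatingGroup (Fin n)).subtype with hM'def
  have hle : M' ≤ pairStab B := hB ▸ inf_le_right
  have hmul := Subgroup.relIndex_mul_index hle
  intro p hp hpπ hd
  rcases eq_or_ne p 2 with rfl | hp2
  · obtain ⟨a, ha, a', ha', hne⟩ := Finset.one_lt_card.1 hout.two_le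
    have hsw : swap a a' ∈ pairStab B := setStab_le_pairStab B (mem_setStab.2 fun x => by
      rcases eq_or_ne x a with rfl | h1
      · rw [swap_apply_left]; exact iff_of_true ha' ha
      rcases eq_or_ne x a' with rfl | h2
      · rw [swap_apply_right]; exact iff_of_true ha ha'
      · rw [swap_apply_of_ne_of_ne h1 h2])
    refine hM'.two hpπ ?_
    rw [← hmul, show (4 : ℕ) = 2 * 2 from rfl]
    refine Nat.mul_dvd_mul ?_ hd
    have h1 : (alternatingGroup (Fin n)).relIndex (pairStab B) ∣ M'.relIndex (pairStab B) :=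
      Subgroup.relIndex_dvd_of_le_left _ hM'.le
    have h2' : (alternatingGroup (Fin n)).relIndex (pairStab B) ∣ 2 := by
      rw [← alternatingGroup.index_eq_two (α := Fin n)]
      exact Subgroup.relIndex_dvd_index_of_normal _ _
    rcases (Nat.dvd_prime Nat.prime_two).1 h2' with e | e
    · have := mem_alternatingGroup.1 ((Subgroup.relIndex_eq_one.1 e) hsw)
      rw [sign_swap hne] at this
      exact absurd this (by decide)
    · exact e ▸ h1
  · exact hM'.odd p hp hp2 hpπ (hd.trans (Dvd.intro_left _ hmul))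

/-- The Hall subgroups of the symmetric group in the non-trivial case. -/
theorem perm_shape (h : ¬ TrivPrimes π n) {H : Subgroup (Perm (Fin n))} (hH : Cfsg.IsPiHall π H) :
    ∃ B : Finset (Fin n), H = pairStab B ∧ Outcome π n B.card := by
  obtain ⟨B, -, hN, -, hout⟩ := alt_shape h (isPiHall_subgroupOf hH (alternatingGroup (Fin n)))
  refine ⟨B, hall_eq_of_le hH (le_trans ?_ hN) hout.pi_pairStab, hout⟩
  rw [Subgroup.subgroupOf_map_subtype]
  intro g hg
  rw [Subgroup.mem_normalizer_iff]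
  intro x
  simp only [Subgroup.mem_inf]
  refine and_congr ?_ ?_
  · rw [Subgroup.mul_mem_cancel_right _ (inv_mem hg), Subgroup.mul_mem_cancel_left _ hg]
  · rw [mem_alternatingGroup, mem_alternatingGroup, map_mul, map_mul, map_inv, mul_comm (sign g), mul_inv_cancel_right]

/-- Two pair stabilisers of the same size are conjugate under an even permutation. -/
theorem exists_alt_conj {B B' : Finset (Fin n)} (hcard : B.card = B'.card) (h2 : 2 ≤ B.card) :
    ∃ g ∈ alternatingGroup (Fin n), ∀ k, k ∈ pairStab B' ↔ g⁻¹ * k * g ∈ pairStab B := by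
  obtain ⟨a, ha, a', ha', hne⟩ := Finset.one_lt_card.1 h2
  let e : {x // x ∈ B} ≃ {x // x ∈ B'} := Fintype.equivOfCardEq (by simp [hcard])
  set g₀ := e.extendSubtype with hg₀
  have hg₀B : ∀ x, g₀ x ∈ B' ↔ x ∈ B := fun x =>
    ⟨fun h => by_contra fun hx => Equiv.extendSubtype_not_mem e x hx h, Equiv.extendSubtype_mem e x⟩
  have hsB : ∀ x, swap a a' x ∈ B ↔ x ∈ B := fun x => by
    rcases eq_or_ne x a with rfl | h1
    · rw [swap_apply_left]; exact iff_of_true ha' ha
    rcases eq_or_ne x a' with rfl | h2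
    · rw [swap_apply_right]; exact iff_of_true ha ha'
    · rw [swap_apply_of_ne_of_ne h1 h2]
  have key : ∀ g : Perm (Fin n), (∀ x, g x ∈ B' ↔ x ∈ B) →
      ∀ k, k ∈ pairStab B' ↔ g⁻¹ * k * g ∈ pairStab B := by
    intro g hg k
    simp only [mem_relStab, ← hg, Perm.mul_apply, Perm.coe_inv, Equiv.apply_symm_apply]
    exact ⟨fun h x y => h (g x) (g y), fun h x y => by simpa using h (g.symm x) (g.symm y)⟩
  rcases Int.units_eq_one_or (sign g₀) with hs | hs
  · exact ⟨g₀, mem_alternatingGroup.2 hs, key g₀ hg₀B⟩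
  · refine ⟨g₀ * swap a a', mem_alternatingGroup.2 ?_, key _ fun x => (hg₀B _).trans (hsB x)⟩
    rw [map_mul, hs, sign_swap hne]
    decide

theorem symm_conj {B B' : Finset (Fin n)} {g : Perm (Fin n)}
    (hk : ∀ k, k ∈ pairStab B' ↔ g⁻¹ * k * g ∈ pairStab B) :
    pairStab B' = (pairStab B).map (MulAut.conj g).toMonoidHom := by
  ext k
  rw [hk, Subgroup.mem_map_equiv, MulAut.conj_symm_apply]

theorem E_iff_C_perm : Cfsg.IsEPiGroup π (Perm (Fin n)) ↔ Cfsg.IsCPiGroup π (Perm (Fin n)) := by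
  refine ⟨fun hE => ?_, And.left⟩
  by_cases h : TrivPrimes π n
  · exact isCPiGroup_of_isDPiGroup (isDPiGroup_perm h)
  refine ⟨hE, fun H K hH hK => ?_⟩
  obtain ⟨B, rfl, hB⟩ := perm_shape h hH
  obtain ⟨B', rfl, hB'⟩ := perm_shape h hK
  obtain ⟨g, -, hg⟩ := exists_alt_conj (hB.card_eq hB') hB.two_le
  exact ⟨g, symm_conj hg⟩

theorem E_perm_iff_E_alt :
    Cfsg.IsEPiGroup π (Perm (Fin n)) ↔ Cfsg.IsEPiGroup π (alternatingGroup (Fin n)) := by
  refine ⟨fun ⟨H, hH⟩ => ⟨_, isPiHall_subgroupOf hH _⟩, fun ⟨M, hM⟩ => ?_⟩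
  by_cases h : TrivPrimes π n
  · exact (isCPiGroup_of_isDPiGroup (isDPiGroup_perm h)).1
  obtain ⟨B, hB, -⟩ := alt_hall_lift h hM
  exact ⟨_, hB⟩

theorem E_iff_C_alt :
    Cfsg.IsEPiGroup π (alternatingGroup (Fin n)) ↔ Cfsg.IsCPiGroup π (alternatingGroup (Fin n)) := by
  refine ⟨fun hE => ?_, And.left⟩
  by_cases h : TrivPrimes π n
  · exact isCPiGroup_of_isDPiGroup (isDPiGroup_alt h)
  refine ⟨hE, fun H K hH hK => ?_⟩
  obtain ⟨B, -, rfl, hB⟩ := alt_hall_lift h hH
  obtain ⟨B', -, rfl, hB'⟩ := alt_hall_lift h hK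
  obtain ⟨g, hgA, hg⟩ := exists_alt_conj (hB.card_eq hB') hB.two_le
  refine ⟨⟨g, hgA⟩, ?_⟩
  ext k
  rw [Subgroup.mem_map_equiv, MulAut.conj_symm_apply, Subgroup.mem_subgroupOf, Subgroup.mem_subgroupOf, hg]
  rfl

/-- In the trivial cases a Hall subgroup of `A` comes from one of `S`. -/
theorem exists_lift_of_triv (h : TrivPrimes π n) {M : Subgroup (alternatingGroup (Fin n))}
    (hM : Cfsg.IsPiHall π M) : ∃ M₀ : Subgroup (Perm (Fin n)), Cfsg.IsPiHall π M₀ ∧
      M = M₀.subgroupOf (alternatingGroup (Fin n)) := by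
  by_cases h2 : 2 ∈ π
  swap
  · refine ⟨M.map (alternatingGroup (Fin n)).subtype, ⟨fun p hp hd => hM.1 p hp ?_, fun p hp hpπ hd => ?_⟩,
      (Subgroup.comap_map_eq_self_of_injective (Subgroup.subtype_injective _) M).symm⟩
    · rwa [Subgroup.card_map_of_injective (Subgroup.subtype_injective _)] at hd
    · rw [Subgroup.index_map_subtype] at hd
      rcases hp.dvd_mul.1 hd with e | e
      · exact hM.2 p hp hpπ e
      · have h1 : (alternatingGroup (Fin n)).index ∣ 2 := by
          rw [alternatingGroup_eq_sign_ker, Subgroup.index_ker]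
          refine (Subgroup.card_subgroup_dvd_card (sign (α := Fin n)).range).trans ?_
          simp [Nat.card_eq_fintype_card, Fintype.card_units_int]
        exact h2 ((Nat.prime_dvd_prime_iff_eq hp Nat.prime_two).1 (e.trans h1) ▸ hpπ)
  by_cases hall : ∀ r : ℕ, r.Prime → r ≤ n → r ∈ π
  · refine ⟨⊤, ⟨fun p hp hd => hall p hp (prime_le_of_dvd_card_perm hp (by rwa [Subgroup.card_top] at hd)),
      fun p hp _ hd => hp.not_dvd_one (Subgroup.index_top (G := Perm (Fin n)) ▸ hd)⟩, ?_⟩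
    rw [Subgroup.top_subgroupOf, ← Subgroup.index_eq_one, Nat.eq_one_iff_not_exists_prime_dvd]
    exact fun p hp hd => hM.2 p hp
      (hall p hp (prime_le_of_dvd_card_alt hp (hd.trans M.index_dvd_card))) hd
  obtain hone := h.resolve_right hall
  have hn2 : 2 ≤ n := by
    by_contra hn
    exact hall fun r hr hrn => absurd hr.two_le (by omega)
  have honly : ∀ p : ℕ, p.Prime → p ∈ π → p ≤ n → p = 2 := fun p hp hpπ hpn =>
    hone p 2 hp Nat.prime_two hpπ h2 hpn hn2
  have h2g : IsPGroup 2 (M.map (alternatingGroup (Fin n)).subtype) := by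
    refine IsPGroup.of_card (n := (Nat.card (M.map (alternatingGroup (Fin n)).subtype)).primeFactorsList.length)
      (Nat.eq_prime_pow_of_unique_prime_dvd Nat.card_pos.ne' fun {p} hp hd => ?_)
    rw [Subgroup.card_map_of_injective (Subgroup.subtype_injective _)] at hd
    exact honly p hp (hM.1 p hp hd) (prime_le_of_dvd_card_alt hp (hd.trans M.card_subgroup_dvd_card))
  obtain ⟨T, hT⟩ := h2g.exists_le_sylow
  have hTH : Cfsg.IsPiHall π (T : Subgroup (Perm (Fin n))) := by
    refine ⟨fun p hp hd => ?_, fun p hp hpπ hd => ?_⟩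
    · obtain ⟨k, hk⟩ := IsPGroup.iff_card.1 T.2
      rw [hk] at hd
      exact (Nat.prime_dvd_prime_iff_eq hp Nat.prime_two).1 (hp.dvd_of_dvd_pow hd) ▸ h2
    · have hp2 := honly p hp hpπ (prime_le_of_dvd_card_perm hp (hd.trans (Subgroup.index_dvd_card _)))
      subst hp2
      exact T.not_dvd_index hd
  exact ⟨T, hTH, hall_eq_of_le hM (Subgroup.map_le_iff_le_comap.1 hT) (isPiHall_subgroupOf hTH _).1⟩

/-- Existence in the exceptional configurations. -/
theorem exists_hall_of_outcome {b : ℕ} (h : Outcome π n b) : Cfsg.IsEPiGroup π (Perm (Fin n)) := by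
  obtain ⟨hn, hout⟩ := h
  rcases hout with ⟨hpr, hb, hpi⟩ | ⟨h78, hb, hpi⟩
  · let B : Finset (Fin n) := Finset.univ.erase ⟨0, by omega⟩
    have hBc : B.card = b := by
      rw [Finset.card_erase_of_mem (Finset.mem_univ _), Finset.card_univ, Fintype.card_fin]; omega
    refine ⟨pairStab B, Outcome.pi_pairStab (hBc.symm ▸ ⟨hn, Or.inl ⟨hpr, hb, hpi⟩⟩), fun p hp hpπ hd => ?_⟩
    have hd' := hd.trans (index_pairStab_dvd B)
    rw [Fintype.card_fin, hBc, ← hb, Nat.choose_succ_self_right, hb] at hd'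
    have := (hpi p hp (Nat.le_of_dvd (by omega) hd')).1 hpπ
    rcases (Nat.dvd_prime hpr).1 hd' with e | e
    · exact hp.ne_one e
    · omega
  · subst hb
    have h35 : ∀ B : Finset (Fin n), B.card = 4 → (pairStab B).index ∣ 35 → Cfsg.IsEPiGroup π (Perm (Fin n)) := by
      intro B hBc hidx
      refine ⟨pairStab B, Outcome.pi_pairStab (hBc.symm ▸ ⟨hn, Or.inr ⟨h78, rfl, hpi⟩⟩), fun p hp hpπ hd => ?_⟩
      have h' : p ∣ 5 * 7 := hd.trans hidx
      rcases hp.dvd_mul.1 h' with e | e <;>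
        have e' := (Nat.prime_dvd_prime_iff_eq hp (by decide)).1 e <;>
        have := (hpi p hp (by omega)).1 hpπ <;> omega
    rcases h78 with rfl | rfl
    · refine h35 {0, 1, 2, 3} rfl ?_
      have := index_pairStab_dvd ({0, 1, 2, 3} : Finset (Fin 7))
      exact this.trans (by decide)
    · refine h35 {0, 1, 2, 3} rfl ?_
      set B : Finset (Fin 8) := {0, 1, 2, 3} with hB
      have hsw : swap (0 : Fin 8) 4 * swap 1 5 * swap 2 6 * swap 3 7 ∈ pairStab B ∧
          swap (0 : Fin 8) 4 * swap 1 5 * swap 2 6 * swap 3 7 ∉ setStab B := by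
        refine ⟨?_, fun h => ?_⟩
        · rw [mem_relStab, hB]; decide +kernel
        · have h0 := mem_setStab.1 h 0
          rw [hB] at h0
          revert h0
          decide +kernel
      have h2 : (setStab B).relIndex (pairStab B) = 2 :=
        ((Nat.dvd_prime Nat.prime_two).1 (relIndex_setStab B)).resolve_left fun e =>
          hsw.2 (Subgroup.relIndex_eq_one.1 e hsw.1)
      have hm := Subgroup.relIndex_mul_index (setStab_le_pairStab B)
      rw [h2, index_setStab, show B.card = 4 from rfl, Fintype.card_fin,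
        (by decide : Nat.choose 8 4 = 70)] at hm
      exact dvd_of_eq (by omega)

end Cfsg.Lib.SymHall
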