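import Mathlib

/-!
# Binomial coefficients without small prime factors
-/

set_option autoImplicit false

namespace Cfsg.Lib.SymHall

open Nat

theorem no_carry {b c p i : ℕ} (hp : p.Prime) (hi : 1 ≤ i) (h : ¬ p ∣ (b + c).choose c) :
    c % p ^ i + b % p ^ i < p ^ i := by
  have hz : ((b + c).choose c).factorization p = 0 := Nat.factorization_eq_zero_of_not_dvd h
  rw [Nat.factorization_choose' hp (b := max (i + 1) (Nat.log p (b + c) + 1))
    (lt_of_lt_of_le (Nat.lt_succ_self _) (le_max_right _ _)), Finset.card_eq_zero] at hz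
  by_contra hle
  have hm : i ∈ (∅ : Finset ℕ) := hz ▸ Finset.mem_filter.2
    ⟨Finset.mem_Ico.2 ⟨hi, lt_of_lt_of_le (Nat.lt_succ_self _) (le_max_left _ _)⟩, not_lt.1 hle⟩
  exact Finset.notMem_empty _ hm

theorem mod_eq_sub_of_dvd_add {q b j : ℕ} (h : q ∣ b + j) (hj : j ≤ q) (hj0 : 0 < j) :
    b % q = q - j := by
  obtain ⟨k, hk⟩ := h
  rcases k with _ | k
  · omega
  rw [show b = (q - j) + q * k by rw [Nat.mul_succ] at hk; omega, Nat.add_mul_mod_self_left,
    Nat.mod_eq_of_lt (by omega)]

theorem prime_le_of_dvd {m b j p : ℕ} (hp : p.Prime) (hm : m = b + j) (h : p ∣ m) (hnp : ¬ m.Prime)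
    (hjb : j ≤ b) (hb : 0 < b) : p ≤ b := by
  obtain ⟨k, hk⟩ := h
  rcases k with _ | _ | k
  · omega
  · exact absurd (by rw [hk, Nat.mul_one]; exact hp) hnp
  · have : p * 2 ≤ p * (k + 1 + 1) := Nat.mul_le_mul_left _ (by omega)
    omega

/-- The only binomial coefficient `C(b + c, c)`, `2 ≤ c < b`, without prime factor at most `b`. -/
theorem pair_lemma {b c : ℕ} (hb : 3 ≤ b) (hc : 2 ≤ c) (hcb : c < b)
    (h : ∀ p : ℕ, p.Prime → p ≤ b → ¬ p ∣ (b + c).choose c) : b = 4 ∧ c = 3 := by
  -- `b + 1` is prime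
  have h1 : (b + 1).Prime := by
    by_contra hnp
    have hdvd : b + 1 ∣ c := by
      rw [Nat.dvd_iff_prime_pow_dvd_dvd]
      intro p i hp hpi
      rcases Nat.eq_zero_or_pos i with rfl | hi
      · simp
      have hpb := prime_le_of_dvd hp rfl ((dvd_pow_self p hi.ne').trans hpi) hnp (by omega) (by omega)
      have h2 := no_carry hp hi (h p hp hpb)
      have hq : 1 ≤ p ^ i := Nat.one_le_pow _ _ hp.pos
      rw [mod_eq_sub_of_dvd_add hpi hq one_pos] at h2
      refine Nat.dvd_of_mod_eq_zero ?_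
      generalize p ^ i = q at h2 hq ⊢
      omega
    have := Nat.le_of_dvd (by omega) hdvd
    omega
  -- `c + 1` divides `b`
  obtain ⟨t, ht⟩ : c + 1 ∣ b := by
    rw [Nat.dvd_iff_prime_pow_dvd_dvd]
    intro p i hp hpi
    rcases Nat.eq_zero_or_pos i with rfl | hi
    · simp
    have hpc : p ≤ c + 1 := Nat.le_of_dvd (by omega) ((dvd_pow_self p hi.ne').trans hpi)
    have h2 := no_carry hp hi (h p hp (by omega))
    have hq : 1 ≤ p ^ i := Nat.one_le_pow _ _ hp.pos
    rw [mod_eq_sub_of_dvd_add hpi hq one_pos] at h2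
    refine Nat.dvd_of_mod_eq_zero ?_
    generalize p ^ i = q at h2 hq ⊢
    omega
  have hbe : Even b := by
    rcases h1.eq_two_or_odd' with e | ho
    · omega
    · exact Nat.not_odd_iff_even.1 fun hb' => Nat.not_even_iff_odd.2 ho (hb'.add_odd odd_one)
  -- `b + 2` divides `c (c - 1)`
  obtain ⟨u, hu⟩ : b + 2 ∣ c * (c - 1) := by
    rw [Nat.dvd_iff_prime_pow_dvd_dvd]
    intro p i hp hpi
    rcases Nat.eq_zero_or_pos i with rfl | hi
    · simp
    have hq : 1 < p ^ i := Nat.one_lt_pow hi.ne' hp.one_lt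
    have hce : 2 ∣ c * (c - 1) := by
      rcases Nat.even_or_odd c with ⟨k, hk⟩ | ⟨k, hk⟩
      · exact Dvd.dvd.mul_right ⟨k, by omega⟩ _
      · exact Dvd.dvd.mul_left ⟨k, by omega⟩ _
    rcases Nat.lt_or_ge 2 (p ^ i) with hq2 | hq2
    · have hpb := prime_le_of_dvd hp rfl ((dvd_pow_self p hi.ne').trans hpi) (by
        intro h2
        rcases h2.eq_two_or_odd' with e | ho
        · omega
        · exact Nat.not_even_iff_odd.2 ho (hbe.add even_two)) (by omega) (by omega)
      have h2 := no_carry hp hi (h p hp hpb)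
      rw [mod_eq_sub_of_dvd_add hpi hq2.le two_pos] at h2
      rcases (show c % p ^ i = 0 ∨ c % p ^ i = 1 by
        generalize p ^ i = q at h2 hq2 ⊢
        omega) with e | e
      · exact (Nat.dvd_of_mod_eq_zero e).mul_right _
      · exact ((Nat.modEq_iff_dvd' (by omega)).1
          (show 1 ≡ c [MOD p ^ i] by rw [Nat.ModEq, e, Nat.one_mod_eq_one.2 (by omega)])).mul_left _
    · rwa [show p ^ i = 2 by omega]
  -- the arithmetic
  have ht1 : 1 ≤ t := Nat.one_le_iff_ne_zero.2 fun e => by simp [e] at ht; omega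
  have hu1 : 1 ≤ u := Nat.one_le_iff_ne_zero.2 fun e => by
    subst e
    rw [mul_zero] at hu
    rcases Nat.mul_eq_zero.1 hu with e | e <;> omega
  have hcases : (b = 10 ∧ c = 9) ∨ b + 2 = c * (c - 1) := by
    have hid : ((c : ℤ) + 1) * (u * t - c + 2) = 2 - 2 * u := by
      have e1 : (b : ℤ) = ((c : ℤ) + 1) * t := by exact_mod_cast ht
      have e2 : (c : ℤ) * ((c : ℤ) - 1) = ((b : ℤ) + 2) * u := by
        have := congrArg (Nat.cast (R := ℤ)) hu
        push_cast [Nat.cast_sub (show 1 ≤ c by omega)] at this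
        linarith
      rw [e1] at e2
      linear_combination -e2
    have hub : u + 2 ≤ c := by
      by_contra hlt
      have : (b + 2) * (c - 1) ≤ (b + 2) * u := Nat.mul_le_mul_left _ (by omega)
      have : c * (c - 1) < (b + 2) * (c - 1) := Nat.mul_lt_mul_of_pos_right (by omega) (by omega)
      omega
    set w : ℤ := (u : ℤ) * t - c + 2 with hw
    rcases (show w ≤ -2 ∨ w = -1 ∨ w = 0 ∨ 1 ≤ w by omega) with e | e | e | e
    · nlinarith [mul_le_mul_of_nonneg_left e (by omega : (0 : ℤ) ≤ (c : ℤ) + 1)]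
    · rw [e] at hid
      have hut : u * t + 3 = c := by
        have : (u : ℤ) * t = (c : ℤ) - 3 := by linarith
        have h3 : ((u * t + 3 : ℕ) : ℤ) = (c : ℤ) := by push_cast; linarith
        exact_mod_cast h3
      rcases Nat.lt_or_ge t 2 with ht2 | ht2
      · have : t = 1 := by omega
        subst this
        omega
      · have : u * 2 ≤ u * t := Nat.mul_le_mul_left _ ht2
        omega
    · rw [e, mul_zero] at hid
      have : u = 1 := by omega
      rw [this, mul_one] at hu
      exact Or.inr hu.symm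
    · nlinarith [mul_le_mul_of_nonneg_left e (by omega : (0 : ℤ) ≤ (c : ℤ) + 1)]
  rcases hcases with ⟨rfl, rfl⟩ | hbc
  · exact absurd (by decide) (h 2 Nat.prime_two (by omega))
  rcases Nat.lt_or_ge c 4 with hc4 | hc4
  · rcases (show c = 2 ∨ c = 3 by omega) with rfl | rfl <;> omega
  exfalso
  have hb10 : 10 ≤ b := by
    have := Nat.mul_le_mul hc4 (show 3 ≤ c - 1 by omega)
    omega
  -- `b + 4` divides 24
  have h24 : b + 4 ∣ 24 := by
    rw [Nat.dvd_iff_prime_pow_dvd_dvd]
    intro p i hp hpi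
    rcases Nat.eq_zero_or_pos i with rfl | hi
    · simp
    have hq : 1 < p ^ i := Nat.one_lt_pow hi.ne' hp.one_lt
    rcases Nat.lt_or_ge 4 (p ^ i) with hq4 | hq4
    · have hpb := prime_le_of_dvd hp rfl ((dvd_pow_self p hi.ne').trans hpi) (by
        intro h2
        rcases h2.eq_two_or_odd' with e | ho
        · omega
        · exact Nat.not_even_iff_odd.2 ho (hbe.add (by decide))) (by omega) (by omega)
      have h2 := no_carry hp hi (h p hp hpb)
      rw [mod_eq_sub_of_dvd_add hpi hq4.le (by norm_num)] at h2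
      obtain ⟨r, hr4, hr⟩ : ∃ r, r < 4 ∧ c % p ^ i = r := ⟨_, by
        generalize p ^ i = q at h2 hq4 ⊢
        omega, rfl⟩
      have hdiv : c = r + p ^ i * (c / p ^ i) := by
        rw [← hr]; exact (Nat.mod_add_div _ _).symm
      -- `r² - r + 2` is a multiple of `p ^ i`
      have hz : ((p ^ i : ℕ) : ℤ) ∣ (r : ℤ) * r - r + 2 := by
        have e1 : ((b + 4 : ℕ) : ℤ) = (c : ℤ) * c - c + 2 := by
          have := congrArg (Nat.cast (R := ℤ)) hbc
          push_cast [Nat.cast_sub (show 1 ≤ c by omega)] at this ⊢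
          linarith
        have h3 : ((p ^ i : ℕ) : ℤ) ∣ (c : ℤ) * c - c + 2 := e1 ▸ Int.natCast_dvd_natCast.2 hpi
        have e2 : (c : ℤ) = r + (p ^ i : ℕ) * (c / p ^ i : ℕ) := by exact_mod_cast hdiv
        generalize (c / p ^ i : ℕ) = k at e2
        have e3 : (r : ℤ) * r - r + 2 = ((c : ℤ) * c - c + 2) -
            ((p ^ i : ℕ) : ℤ) * ((2 * r - 1) * k + (p ^ i : ℕ) * (k : ℤ) * k) := by
          rw [e2]; ring
        rw [e3]
        exact dvd_sub h3 (dvd_mul_right _ _)
      have h8 : p ^ i ∣ 8 := by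
        have h4 : ((p ^ i : ℕ) : ℤ) ∣ ((8 : ℕ) : ℤ) := by
          interval_cases r <;> norm_num at hz ⊢
          all_goals first
            | exact hz
            | exact hz.trans (by norm_num)
        exact_mod_cast h4
      exact h8.trans (by norm_num)
    · interval_cases (p ^ i) <;> norm_num
  have := Nat.le_of_dvd (by norm_num) h24
  have hc5 : c ≤ 5 := by
    by_contra hlt
    have := Nat.mul_le_mul (show 6 ≤ c by omega) (show 5 ≤ c - 1 by omega)
    omega
  rcases (show c = 4 ∨ c = 5 by omega) with rfl | rfl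
  · obtain rfl : b = 10 := by omega
    norm_num at h24
  · obtain rfl : b = 18 := by omega
    norm_num at h24

/-- The middle coefficient. -/
theorem middle_lemma {b : ℕ} (hb : 3 ≤ b)
    (h : ∀ p : ℕ, p.Prime → p ≤ b → ¬ p ∣ (2 * b - 1).choose (b - 1)) : b = 4 := by
  rcases eq_or_lt_of_le hb with e | e
  · subst e
    exact absurd (by decide) (h 2 Nat.prime_two (by omega))
  exact (pair_lemma hb (show 2 ≤ b - 1 by omega) (by omega)
    (by rwa [show b + (b - 1) = 2 * b - 1 by omega])).1

/-- Partitions into `k` parts of size `b`. -/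
theorem exists_uniform (b k : ℕ) (hb : 1 ≤ b) :
    ∃ G : ℕ, b ! ^ k * k ! * G = (b * k)! ∧
      (2 ≤ k → (2 * b - 1).choose (b - 1) ∣ G) ∧ (3 ≤ k → (3 * b - 1).choose (b - 1) ∣ G) := by
  induction k with
  | zero => exact ⟨1, by simp, by omega, by omega⟩
  | succ k ih =>
    obtain ⟨G, hG, h2, h3⟩ := ih
    refine ⟨G * (b * k + (b - 1)).choose (b - 1), ?_, fun hk => ?_, fun hk => ?_⟩
    · have e1 := Nat.add_one_mul_choose_eq (b * k + (b - 1)) (b - 1)
      rw [show b * k + (b - 1) + 1 = b * k + b by omega, show b - 1 + 1 = b by omega] at e1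
      have e2 := Nat.add_choose_mul_factorial_mul_factorial (b * k) b
      rw [show b * (k + 1) = b * k + b by ring, ← e2, ← hG]
      have e3 : (b * k + b).choose b * b = (k + 1) * b * (b * k + (b - 1)).choose (b - 1) := by
        rw [← e1]; ring
      have e4 : (b * k + b).choose b = (k + 1) * (b * k + (b - 1)).choose (b - 1) :=
        Nat.eq_of_mul_eq_mul_right (by omega : 0 < b) (e3.trans (by ring))
      rw [e4, Nat.factorial_succ, pow_succ]
      ring
    · rcases Nat.lt_or_ge k 2 with hk2 | hk2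
      · obtain rfl : k = 1 := by omega
        rw [show b * 1 + (b - 1) = 2 * b - 1 by omega]
        exact dvd_mul_left _ _
      · exact (h2 hk2).mul_right _
    · rcases Nat.lt_or_ge k 3 with hk3 | hk3
      · obtain rfl : k = 2 := by omega
        rw [show b * 2 + (b - 1) = 3 * b - 1 by omega]
        exact dvd_mul_left _ _
      · exact (h3 hk3).mul_right _

end Cfsg.Lib.SymHall
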