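import Cfsg.Agent.SymHall.Cycles
import Cfsg.Agent.SymHall.Counting
import Cfsg.Agent.SymHall.Numeric

/-!
# Classification of Hall subgroups containing three-cycles
-/

set_option autoImplicit false
set_option linter.unusedSectionVars false
set_option linter.style.haveILetI false

namespace Cfsg.Lib.SymHall

open Equiv Equiv.Perm

variable {α : Type*} [Fintype α] [DecidableEq α]

/-- Two points lie in a common three-cycle of `M`. -/
def cycleRel (M : Subgroup (Perm α)) (a b : α) : Prop :=
  a = b ∨ ∃ t ∈ M, t.support.card = 3 ∧ a ∈ t.support ∧ b ∈ t.support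

theorem conj_card_support {M : Subgroup (Perm α)} {g t : Perm α} (hg : g ∈ M) (ht : t ∈ M)
    (h3 : t.support.card = 3) :
    g * t * g⁻¹ ∈ M ∧ (g * t * g⁻¹).support.card = 3 ∧ (g * t * g⁻¹).support = t.support.map g.toEmbedding :=
  ⟨mul_mem (mul_mem hg ht) (inv_mem hg), by rw [support_conj, Finset.card_map, h3], support_conj⟩

theorem cycleRel_trans {M : Subgroup (Perm α)} {a b d : α} (h : cycleRel M a b) (h' : cycleRel M b d) :
    cycleRel M a d := by
  rcases h with rfl | ⟨t, ht, ht3, hat, hbt⟩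
  · exact h'
  rcases h' with rfl | ⟨s, hs, hs3, hbs, hds⟩
  · exact Or.inr ⟨t, ht, ht3, hat, hbt⟩
  by_cases has : a ∈ s.support
  · exact Or.inr ⟨s, hs, hs3, has, hds⟩
  obtain ⟨i, hi⟩ := (card_support_eq_three_iff.1 hs3).isCycle.sameCycle (mem_support.1 hbs) (mem_support.1 hds)
  obtain ⟨h1, h2, h3⟩ := conj_card_support (zpow_mem hs i) ht ht3
  refine Or.inr ⟨_, h1, h2, ?_, ?_⟩
  · rw [h3, Finset.mem_map]
    exact ⟨a, hat, zpow_apply_eq_self_of_apply_eq_self (notMem_support.1 has) i⟩
  · rw [h3, Finset.mem_map]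
    exact ⟨b, hbt, hi⟩

/-- The partition of the points attached to `M`. -/
def cycleSetoid (M : Subgroup (Perm α)) : Setoid α where
  r := cycleRel M
  iseqv := ⟨fun _ => Or.inl rfl, fun {a b} h => h.imp Eq.symm fun ⟨t, h1, h2, h3, h4⟩ => ⟨t, h1, h2, h4, h3⟩,
    cycleRel_trans⟩

theorem normalizer_le_relStab (M : Subgroup (Perm α)) :
    Subgroup.normalizer (M : Set (Perm α)) ≤ relStab (cycleSetoid M).r := by
  intro g hg a b
  have key : ∀ g ∈ Subgroup.normalizer (M : Set (Perm α)), ∀ a b, cycleRel M a b → cycleRel M (g a) (g b) := by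
    rintro g hg a b (rfl | ⟨t, ht, ht3, hat, hbt⟩)
    · exact Or.inl rfl
    · refine Or.inr ⟨g * t * g⁻¹, (Subgroup.mem_normalizer_iff.1 hg t).1 ht, ?_, ?_, ?_⟩
      · rw [support_conj, Finset.card_map, ht3]
      · rw [support_conj]; exact Finset.mem_map.2 ⟨a, hat, rfl⟩
      · rw [support_conj]; exact Finset.mem_map.2 ⟨b, hbt, rfl⟩
  refine ⟨fun h => ?_, key g hg a b⟩
  have := key g⁻¹ (inv_mem hg) _ _ h
  have e : ∀ z, g⁻¹ (g z) = z := fun z => by simp
  rw [e, e] at this
  exact this

theorem le_relStab (M : Subgroup (Perm α)) : M ≤ relStab (cycleSetoid M).r :=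
  Subgroup.le_normalizer.trans (normalizer_le_relStab M)

theorem exists_third {S : Finset α} (hS : S.card = 3) {a b : α} (ha : a ∈ S) (hb : b ∈ S) (hab : a ≠ b) :
    ∃ x, S = {a, b, x} ∧ x ≠ a ∧ x ≠ b := by
  have hb' : b ∈ S.erase a := Finset.mem_erase.2 ⟨hab.symm, hb⟩
  obtain ⟨x, hx⟩ := Finset.card_eq_one.1 (show ((S.erase a).erase b).card = 1 by
    rw [Finset.card_erase_of_mem hb', Finset.card_erase_of_mem ha, hS])
  have hxm : x ∈ (S.erase a).erase b := hx ▸ Finset.mem_singleton_self x
  refine ⟨x, ?_, (Finset.mem_erase.1 (Finset.mem_of_mem_erase hxm)).1, (Finset.mem_erase.1 hxm).1⟩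
  rw [← hx, Finset.insert_erase hb', Finset.insert_erase ha]

/-- Every three points of a class carry a three-cycle of `M`. -/
theorem exists_cycle_on {M : Subgroup (Perm α)} {a b c : α} (hab : a ≠ b) (hac : a ≠ c) (hbc : b ≠ c)
    (h : cycleRel M a b) (h' : cycleRel M a c) : ∃ t ∈ M, t.support = {a, b, c} := by
  obtain ⟨t, ht, ht3, hat, hbt⟩ := h.resolve_left hab
  obtain ⟨s, hs, hs3, has, hcs⟩ := h'.resolve_left hac
  obtain ⟨x, htS, hxa, hxb⟩ := exists_third ht3 hat hbt hab
  obtain ⟨y, hsS, hya, hyc⟩ := exists_third hs3 has hcs hac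
  by_cases hxc : x = c
  · exact ⟨t, ht, hxc ▸ htS⟩
  by_cases hyb : y = b
  · exact ⟨s, hs, by rw [hsS, hyb, Finset.pair_comm c b]⟩
  have hu : ∃ u ∈ M, u.support.card = 3 ∧ c ∈ u.support ∧ x ∈ u.support ∧
      u.support ⊆ ({a, b, c, x} : Finset α) := by
    by_cases hyx : y = x
    · exact ⟨s, hs, hs3, hcs, by simp [hsS, hyx], by
        intro z hz; rw [hsS, hyx] at hz; simp at hz ⊢; tauto⟩
    obtain ⟨i, hi⟩ := (card_support_eq_three_iff.1 hs3).isCycle.sameCycle (mem_support.1 has) (mem_support.1 hcs)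
    obtain ⟨h1, h2, h3⟩ := conj_card_support (zpow_mem hs i) ht ht3
    have hb' : b ∉ s.support := by simp [hsS, hab.symm, hbc, Ne.symm hyb]
    have hx' : x ∉ s.support := by simp [hsS, hxa, hxc, Ne.symm hyx]
    refine ⟨_, h1, h2, h3 ▸ Finset.mem_map.2 ⟨a, hat, hi⟩,
      h3 ▸ Finset.mem_map.2 ⟨x, by simp [htS], zpow_apply_eq_self_of_apply_eq_self (notMem_support.1 hx') i⟩, ?_⟩
    intro z hz
    rw [h3, htS] at hz
    simp only [Finset.map_insert, Finset.map_singleton, Equiv.coe_toEmbedding, hi,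
      zpow_apply_eq_self_of_apply_eq_self (notMem_support.1 hx') i,
      zpow_apply_eq_self_of_apply_eq_self (notMem_support.1 hb') i, Finset.mem_insert, Finset.mem_singleton] at hz ⊢
    tauto
  obtain ⟨u, hu, hu3, hcu, hxu, hsub⟩ := hu
  obtain ⟨i, hi⟩ := (card_support_eq_three_iff.1 hu3).isCycle.sameCycle (mem_support.1 hcu) (mem_support.1 hxu)
  obtain ⟨h1, h2, h3⟩ := conj_card_support (zpow_mem hu i) ht ht3
  refine ⟨_, h1, Finset.eq_of_subset_of_card_le ?_ ?_⟩
  · intro z hz
    rw [h3, Finset.mem_map] at hz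
    obtain ⟨w, hw, rfl⟩ := hz
    have hw4 : w ∈ ({a, b, c, x} : Finset α) := by rw [htS] at hw; simp at hw ⊢; tauto
    have hgw : (u ^ i) w ∈ ({a, b, c, x} : Finset α) := by
      by_cases hwu : w ∈ u.support
      · exact hsub (zpow_apply_mem_support.2 hwu)
      · rwa [zpow_apply_eq_self_of_apply_eq_self (notMem_support.1 hwu) i]
    have hne : (u ^ i) w ≠ x := fun e => by
      have : w = c := (u ^ i).injective (e.trans hi.symm)
      subst this
      rw [htS] at hw
      simp [Ne.symm hac, Ne.symm hbc, Ne.symm hxc] at hw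
    simp only [Equiv.coe_toEmbedding, Finset.mem_insert, Finset.mem_singleton] at hgw ⊢
    tauto
  · rw [h2, Finset.card_eq_three.2 ⟨a, b, c, hab, hac, hbc, rfl⟩]

/-- Three-cycles on the same points are equal or inverse to each other. -/
theorem eq_or_eq_inv_of_support {u t : Perm α} (h : u.support = t.support) (h3 : t.support.card = 3) :
    u = t ∨ u = t⁻¹ := by
  have key : ∀ (t : Perm α), t.support = u.support → ∀ a ∈ u.support, u a = t a → u = t := by
    intro t ht a ha hua
    have hu3 : u.support.card = 3 := h ▸ h3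
    obtain ⟨w, hS, hwa, hwz⟩ := exists_third hu3 ha (apply_mem_support.2 ha) (Ne.symm (mem_support.1 ha))
    have step : ∀ v : Perm α, v.support = u.support → v a = u a → v (u a) = w ∧ v w = a := by
      intro v hv hva
      have hin : ∀ z ∈ u.support, v z ∈ u.support ∧ v z ≠ z := fun z hz =>
        ⟨hv ▸ apply_mem_support.2 (hv ▸ hz), mem_support.1 (hv ▸ hz)⟩
      have h1 := hin (u a) (apply_mem_support.2 ha)
      have h2 := hin w (by rw [hS]; simp)
      rw [hS] at h1 h2
      simp only [Finset.mem_insert, Finset.mem_singleton] at h1 h2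
      have e1 : v (u a) ≠ v w := fun e => hwz (v.injective e).symm
      have e2 : v w ≠ u a := fun e => hwa (v.injective (e.trans hva.symm))
      have e3 : v w = a := by tauto
      refine ⟨?_, e3⟩
      rw [e3] at e1
      tauto
    obtain ⟨h1, h2⟩ := step u rfl rfl
    obtain ⟨h1', h2'⟩ := step t ht hua.symm
    refine Equiv.ext fun z => ?_
    by_cases hz : z ∈ u.support
    · rw [hS] at hz
      simp only [Finset.mem_insert, Finset.mem_singleton] at hz
      rcases hz with rfl | rfl | rfl
      exacts [hua, h1.trans h1'.symm, h2.trans h2'.symm]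
    · rw [notMem_support.1 hz, notMem_support.1 (ht ▸ hz)]
  obtain ⟨a, ha⟩ : t.support.Nonempty := Finset.card_pos.1 (by omega)
  have hne : t a ≠ t⁻¹ a := fun e => by
    obtain ⟨w, hS, hwa, hwz⟩ := exists_third h3 ha (apply_mem_support.2 ha) (Ne.symm (mem_support.1 ha))
    have hta : t (t a) = a := by
      have := congrArg t e
      simpa using this
    have hw : w ∈ t.support := by rw [hS]; simp
    have hm := apply_mem_support.2 hw
    rw [hS] at hm
    simp only [Finset.mem_insert, Finset.mem_singleton] at hm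
    rcases hm with e1 | e1 | e1
    · exact hwz (t.injective (e1.trans hta.symm))
    · exact hwa (t.injective e1)
    · exact mem_support.1 hw e1
  obtain ⟨w, hS, hwa, hwz⟩ := exists_third h3 ha (apply_mem_support.2 ha) (Ne.symm (mem_support.1 ha))
  have h1 : t⁻¹ a ∈ t.support := by
    rw [← Perm.support_inv]
    exact apply_mem_support.2 (by rw [Perm.support_inv]; exact ha)
  have h2 : t⁻¹ a ≠ a := fun e => mem_support.1 (show a ∈ t⁻¹.support by rw [Perm.support_inv]; exact ha) e
  have h4 : u a ∈ t.support := h ▸ apply_mem_support.2 (h ▸ ha)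
  have h5 : u a ≠ a := mem_support.1 (h ▸ ha)
  rw [hS] at h1 h4
  simp only [Finset.mem_insert, Finset.mem_singleton] at h1 h4
  have h6 : u a = t a ∨ u a = t⁻¹ a := by
    rcases h1.resolve_left h2 with e | e
    · exact absurd e.symm hne
    · rw [e]; exact h4.resolve_left h5
  exact h6.imp (key t h.symm a (h ▸ ha)) (key t⁻¹ (by rw [Perm.support_inv, h]) a (h ▸ ha))

/-- The class of a point. -/
noncomputable def cls (M : Subgroup (Perm α)) (a : α) : Finset α := by
  classical exact Finset.univ.filter fun x => cycleRel M a x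

theorem mem_cls {M : Subgroup (Perm α)} {a x : α} : x ∈ cls M a ↔ cycleRel M a x := by
  classical simp [cls]

theorem cls_eq_of_rel {M : Subgroup (Perm α)} {a x : α} (h : cycleRel M a x) : cls M x = cls M a := by
  ext z
  rw [mem_cls, mem_cls]
  exact ⟨fun h' => cycleRel_trans h h', fun h' => cycleRel_trans ((cycleSetoid M).iseqv.symm h) h'⟩

theorem card_cls_conj {M : Subgroup (Perm α)} {g : Perm α} (hg : g ∈ M) (a : α) :
    (cls M (g a)).card = (cls M a).card := by
  rw [← Finset.card_map g.toEmbedding (s := cls M a)]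
  congr 1
  ext z
  rw [Finset.mem_map_equiv, mem_cls, mem_cls]
  have := le_relStab M hg a (g.symm z)
  rw [Equiv.apply_symm_apply] at this
  exact this

/-- All primes up to the size of a class divide the order of `M`. -/
theorem odd_prime_dvd_card {M : Subgroup (Perm α)} {a : α} {p : ℕ} (hp : p.Prime) (hp2 : p ≠ 2)
    (hle : p ≤ (cls M a).card) : p ∣ Nat.card M := by
  classical
  set C := cls M a
  have hAle : (alternatingGroup {x // x ∈ C}).map Perm.ofSubtype ≤ M := by
    rw [← closure_three_cycles_eq_alternating, MonoidHom.map_closure, Subgroup.closure_le]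
    rintro _ ⟨u, hu, rfl⟩
    have hsub : ∀ z ∈ (Perm.ofSubtype u).support, z ∈ C := fun z hz => by
      rw [support_ofSubtype, Finset.mem_map] at hz
      obtain ⟨w, -, rfl⟩ := hz
      exact w.2
    have hu3 : (Perm.ofSubtype u).support.card = 3 := by
      rw [support_ofSubtype, Finset.card_map]
      have hu' : u.IsThreeCycle := hu
      convert hu'.card_support
    obtain ⟨x, y, z, hxy, hxz, hyz, hS⟩ := Finset.card_eq_three.1 hu3
    have hr : ∀ w ∈ C, cycleRel M x w := fun w hw => by
      rw [mem_cls] at hw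
      exact cycleRel_trans ((cycleSetoid M).iseqv.symm (mem_cls.1 (hsub x (by simp [hS])))) hw
    obtain ⟨t, ht, htS⟩ := exists_cycle_on hxy hxz hyz (hr y (hsub y (by simp [hS]))) (hr z (hsub z (by simp [hS])))
    rcases eq_or_eq_inv_of_support (hS.trans htS.symm) (by rw [htS, ← hS, hu3]) with e | e
    · exact e ▸ ht
    · exact e ▸ inv_mem ht
  refine dvd_trans ?_ ((Subgroup.card_map_of_injective (Perm.ofSubtype_injective)).symm.dvd.trans
    (Subgroup.card_dvd_of_le hAle))
  haveI : Nontrivial {x // x ∈ C} := Fintype.one_lt_card_iff_nontrivial.1 (by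
    rw [Fintype.card_coe]; exact lt_of_lt_of_le hp.one_lt hle)
  have h : p ∣ 2 * Nat.card (alternatingGroup {x // x ∈ C}) := by
    rw [two_mul_nat_card_alternatingGroup, Nat.card_perm, Nat.card_eq_fintype_card (α := {x // x ∈ C}),
      Fintype.card_coe]
    exact Nat.dvd_factorial hp.pos hle
  exact ((Nat.coprime_primes hp Nat.prime_two).2 hp2).dvd_of_dvd_mul_left h

end Cfsg.Lib.SymHall
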