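import Mathlib

/-!
# Cycles and double transpositions in Hall subgroups of alternating groups
-/

set_option autoImplicit false
set_option linter.unusedSectionVars false
set_option linter.style.haveILetI false

namespace Cfsg.Lib.SymHall

open Equiv Equiv.Perm

variable {α : Type*} [Fintype α] [DecidableEq α]

/-- A Hall `π`-subgroup of the alternating group, seen in the symmetric group. -/
structure IsAltHall (π : Set ℕ) (M : Subgroup (Perm α)) : Prop where
  le : M ≤ alternatingGroup α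
  pi : ∀ p : ℕ, p.Prime → p ∣ Nat.card M → p ∈ π
  odd : ∀ p : ℕ, p.Prime → p ≠ 2 → p ∈ π → ¬ p ∣ M.index
  two : 2 ∈ π → ¬ 4 ∣ M.index

theorem smul_sylow_mem {G : Type*} [Group G] {p : ℕ} (S : Sylow p G) (g : G) {x : G}
    (hx : x ∈ (S : Subgroup G)) : g * x * g⁻¹ ∈ ((g • S : Sylow p G) : Subgroup G) := by
  rw [Sylow.coe_subgroup_smul]
  exact Subgroup.smul_mem_pointwise_smul x (MulAut.conj g) _ hx

theorem exists_conj_mem {π : Set ℕ} {M : Subgroup (Perm α)} (hM : IsAltHall π M) {p : ℕ}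
    (hp : p.Prime) (hpπ : p ∈ π) (hn : 2 ≤ Fintype.card α) {P : Subgroup (Perm α)} (hP : IsPGroup p P)
    (hPA : P ≤ alternatingGroup α) : ∃ g : Perm α, ∀ x ∈ P, g * x * g⁻¹ ∈ M := by
  classical
  haveI := Fact.mk hp
  obtain ⟨T₀⟩ : Nonempty (Sylow p M) := inferInstance
  set T := (T₀ : Subgroup M).map M.subtype with hT
  have hTM : T ≤ M := Subgroup.map_subtype_le _
  have hTi : T.index = (T₀ : Subgroup M).index * M.index := Subgroup.index_map_subtype _
  obtain ⟨T', hT'⟩ := (T₀.2.map M.subtype).exists_le_sylow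
  have hTT' : T ≤ T' := hT'
  obtain ⟨Q, hQ⟩ := hP.exists_le_sylow
  obtain ⟨g, hg⟩ := MulAction.exists_smul_eq (Perm α) Q T'
  refine ⟨g, fun x hx => hTM ?_⟩
  have hx' : g * x * g⁻¹ ∈ (T' : Subgroup (Perm α)) := hg ▸ smul_sylow_mem Q g (hQ hx)
  have hxA : g * x * g⁻¹ ∈ alternatingGroup α := by
    rw [mem_alternatingGroup, map_mul, map_mul, map_inv, mem_alternatingGroup.1 (hPA hx), mul_one, mul_inv_cancel]
  suffices h : (T' : Subgroup (Perm α)) ⊓ alternatingGroup α ≤ T from h ⟨hx', hxA⟩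
  rw [← Subgroup.relIndex_eq_one]
  obtain ⟨j, hj⟩ := T'.2.exists_card_eq
  have hr : T.relIndex (T' : Subgroup (Perm α)) ∣ p ^ j := hj ▸ T.relIndex_dvd_card _
  obtain ⟨i, -, hi⟩ := (Nat.dvd_prime_pow hp).1 hr
  have hmul := Subgroup.relIndex_mul_index hTT'
  rw [hi, hTi] at hmul
  have hT₀ : ¬ p ∣ (T₀ : Subgroup M).index := T₀.not_dvd_index
  have hcop : ∀ e, (p ^ e).Coprime (T₀ : Subgroup M).index := fun e =>
    Nat.Coprime.pow_left e ((Nat.Prime.coprime_iff_not_dvd hp).2 hT₀)
  by_cases hp2 : p = 2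
  · subst hp2
    have hi1 : i ≤ 1 := by
      by_contra hlt
      refine hM.two hpπ ?_
      have h4 : 2 ^ 2 ∣ (T₀ : Subgroup M).index * M.index :=
        hmul ▸ ((pow_dvd_pow 2 (by omega : 2 ≤ i)).mul_right _)
      exact (hcop 2).dvd_of_dvd_mul_left h4
    have hlow : T ≤ (T' : Subgroup (Perm α)) ⊓ alternatingGroup α := le_inf hTT' (hTM.trans hM.le)
    have h2 := Subgroup.relIndex_mul_relIndex T ((T' : Subgroup (Perm α)) ⊓ alternatingGroup α)
      (T' : Subgroup (Perm α)) hlow inf_le_left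
    rw [hi] at h2
    have hne : ((T' : Subgroup (Perm α)) ⊓ alternatingGroup α).relIndex (T' : Subgroup (Perm α)) ≠ 1 := by
      intro h1
      rw [Subgroup.relIndex_eq_one] at h1
      haveI : Nontrivial α := Fintype.one_lt_card_iff_nontrivial.1 hn
      have hd := Subgroup.index_dvd_of_le (h1.trans inf_le_right)
      rw [alternatingGroup.index_eq_two] at hd
      exact T'.not_dvd_index hd
    rcases (show i = 0 ∨ i = 1 by omega) with rfl | rfl
    · rw [pow_zero] at h2
      exact Nat.eq_one_of_mul_eq_one_right h2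
    · rw [pow_one] at h2
      rcases (Nat.dvd_prime Nat.prime_two).1 (Dvd.intro_left _ h2) with h3 | h3
      · exact absurd h3 hne
      · rw [h3] at h2
        omega
  · rcases Nat.eq_zero_or_pos i with rfl | hi0
    · rw [pow_zero] at hi
      rw [Subgroup.relIndex_eq_one] at hi ⊢
      exact inf_le_left.trans hi
    · exfalso
      refine hM.odd p hp hp2 hpπ ?_
      have h1 : p ^ 1 ∣ (T₀ : Subgroup M).index * M.index :=
        hmul ▸ ((pow_dvd_pow p (by omega : 1 ≤ i)).mul_right _)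
      simpa using (hcop 1).dvd_of_dvd_mul_left h1

theorem isPGroup_closure_of_commute {G : Type*} [Group G] {p : ℕ} {S : Set G}
    (hc : ∀ a ∈ S, ∀ b ∈ S, a * b = b * a) (ho : ∀ a ∈ S, a ^ p = 1) :
    IsPGroup p (Subgroup.closure S) := by
  have hcc := Subgroup.isMulCommutative_closure hc
  have key : ∀ x ∈ Subgroup.closure S, x ^ p = 1 := by
    intro x hx
    induction hx using Subgroup.closure_induction with
    | mem y hy => exact ho y hy
    | one => exact one_pow p
    | mul a b ha hb iha ihb =>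
      have hab : Commute a b := congrArg Subtype.val (hcc.is_comm.comm
        (⟨a, ha⟩ : Subgroup.closure S) ⟨b, hb⟩)
      rw [hab.mul_pow, iha, ihb, mul_one]
    | inv a _ ih => rw [inv_pow, ih, inv_one]
  intro x
  exact ⟨1, Subtype.ext (by rw [pow_one]; exact key x x.2)⟩

/-- Disjoint `p`-cycles covering all but fewer than `p` points. -/
theorem exists_cycles {π : Set ℕ} {M : Subgroup (Perm α)} (hM : IsAltHall π M) {p : ℕ}
    (hp : p.Prime) (hp2 : p ≠ 2) (hpπ : p ∈ π) (hpn : p ≤ Fintype.card α) :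
    ∃ σ : Perm α, Fintype.card α < σ.support.card + p ∧
      ∀ x ∈ σ.cycleFactorsFinset, x ∈ M ∧ x.IsCycle ∧ x.support.card = p := by
  classical
  haveI := Fact.mk hp
  set m := Multiset.replicate (Fintype.card α / p) p with hm
  obtain ⟨σ, hσ⟩ := (Equiv.Perm.exists_with_cycleType_iff α (m := m)).2 ⟨by
      rw [hm, Multiset.sum_replicate, smul_eq_mul]; exact Nat.div_mul_le_self _ _,
    fun a ha => (Multiset.eq_of_mem_replicate ha).symm ▸ hp.two_le⟩
  have hfac : ∀ x ∈ σ.cycleFactorsFinset, x.IsCycle ∧ x.support.card = p := by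
    intro x hx
    refine ⟨(mem_cycleFactorsFinset_iff.1 hx).1, Multiset.eq_of_mem_replicate (n := Fintype.card α / p) ?_⟩
    rw [← hm, ← hσ, cycleType_def]
    exact Multiset.mem_map_of_mem _ hx
  have hord : ∀ x ∈ σ.cycleFactorsFinset, x ^ p = 1 := fun x hx => by
    rw [← (hfac x hx).2, ← (hfac x hx).1.orderOf, pow_orderOf_eq_one]
  obtain ⟨g, hg⟩ := exists_conj_mem hM hp hpπ (hp.two_le.trans hpn)
    (isPGroup_closure_of_commute (S := (σ.cycleFactorsFinset : Set (Perm α)))
      (fun a ha b hb => (cycleFactorsFinset_mem_commute' σ ha hb).eq) hord)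
    ((Subgroup.closure_le _).2 fun x hx => by
      obtain ⟨hc, hs⟩ := hfac x hx
      rw [SetLike.mem_coe, mem_alternatingGroup, hc.sign, hs, (hp.odd_of_ne_two hp2).neg_one_pow, neg_neg])
  refine ⟨g * σ * g⁻¹, ?_, fun x hx => ?_⟩
  · rw [support_conj, Finset.card_map, ← sum_cycleType, hσ, hm, Multiset.sum_replicate, smul_eq_mul]
    exact Nat.lt_div_mul_add hp.pos
  · have hx0 : g⁻¹ * x * g ∈ σ.cycleFactorsFinset := by
      rw [← mem_cycleFactorsFinset_conj σ g]
      simpa [mul_assoc] using hx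
    obtain ⟨hc, hs⟩ := hfac _ hx0
    have he : x = g * (g⁻¹ * x * g) * g⁻¹ := by group
    refine ⟨he ▸ hg _ (Subgroup.subset_closure hx0), he ▸ hc.conj, ?_⟩
    rw [he, support_conj, Finset.card_map, hs]

theorem exists_cycle_apply {σ : Perm α} {a : α} (ha : a ∈ σ.support) :
    ∃ x ∈ σ.cycleFactorsFinset, a ∈ x.support :=
  (mem_support_iff_mem_support_of_mem_cycleFactorsFinset).1 ha

/-- A quad: all three double transpositions on a set of four points lie in `M`. -/
def IsQuad (M : Subgroup (Perm α)) (Q : Finset α) : Prop :=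
  Q.card = 4 ∧ ∀ a b c d : α, a ∈ Q → b ∈ Q → c ∈ Q → d ∈ Q → [a, b, c, d].Nodup →
    swap a b * swap c d ∈ M

theorem conj_swap (g : Perm α) (a b : α) : g * swap a b * g⁻¹ = swap (g a) (g b) := by
  rw [swap_apply_apply]

theorem IsQuad.conj {M : Subgroup (Perm α)} {Q : Finset α} (hQ : IsQuad M Q) {g : Perm α} (hg : g ∈ M) :
    IsQuad M (Q.map g.toEmbedding) := by
  refine ⟨by rw [Finset.card_map, hQ.1], fun a b c d ha hb hc hd hnd => ?_⟩
  simp only [Finset.mem_map, Equiv.coe_toEmbedding] at ha hb hc hd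
  obtain ⟨a, ha, rfl⟩ := ha
  obtain ⟨b, hb, rfl⟩ := hb
  obtain ⟨c, hc, rfl⟩ := hc
  obtain ⟨d, hd, rfl⟩ := hd
  have := mul_mem (mul_mem hg (hQ.2 a b c d ha hb hc hd (List.Nodup.of_map g (by simpa using hnd)))) (inv_mem hg)
  rwa [show g * (swap a b * swap c d) * g⁻¹ = (g * swap a b * g⁻¹) * (g * swap c d * g⁻¹) by group,
    conj_swap, conj_swap] at this

/-- Four distinct points of a four element set. -/
theorem IsQuad.exists_nodup {M : Subgroup (Perm α)} {Q : Finset α} (hQ : IsQuad M Q) {S : Finset α}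
    (hS : S ⊆ Q) : ∃ l : List α, l.Nodup ∧ l.length = 4 ∧ (∀ x ∈ l, x ∈ Q) ∧
      ∀ i, (h : i < l.length) → (l[i] ∈ S ↔ i < S.card) := by
  classical
  refine ⟨S.toList ++ (Q \ S).toList, ?_, ?_, ?_, fun i h => ?_⟩
  · refine List.nodup_append.2 ⟨S.nodup_toList, (Q \ S).nodup_toList, fun a ha b hb e => ?_⟩
    subst e
    exact (Finset.mem_sdiff.1 (Finset.mem_toList.1 hb)).2 (Finset.mem_toList.1 ha)
  · rw [List.length_append, Finset.length_toList, Finset.length_toList, Finset.card_sdiff_of_subset hS]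
    have := hQ.1
    have := Finset.card_le_card hS
    omega
  · intro x hx
    rcases List.mem_append.1 hx with h | h
    · exact hS (Finset.mem_toList.1 h)
    · exact (Finset.mem_sdiff.1 (Finset.mem_toList.1 h)).1
  · by_cases hi : i < S.card
    · rw [List.getElem_append_left (by simpa using hi)]
      simp only [hi, iff_true]
      exact Finset.mem_toList.1 (List.getElem_mem _)
    · rw [List.getElem_append_right (by simpa using hi)]
      simp only [hi, iff_false]
      exact (Finset.mem_sdiff.1 (Finset.mem_toList.1 (List.getElem_mem _))).2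

theorem exists_orderOf_three {M : Subgroup (Perm α)} {x : Perm α} (hx : x ∈ M) (h3 : x ^ 3 = 1)
    (h1 : x ≠ 1) : 3 ∣ Nat.card M := by
  have := Subgroup.orderOf_dvd_natCard M hx
  rwa [orderOf_eq_prime h3 h1] at this

theorem viaEmbeddingHom_swap {m : ℕ} (f : Fin m ↪ α) (i j : Fin m) :
    viaEmbeddingHom f (swap i j) = swap (f i) (f j) := by
  ext x
  rw [viaEmbeddingHom_apply]
  by_cases hx : x ∈ Set.range f
  · obtain ⟨u, rfl⟩ := hx
    rw [viaEmbedding_apply, f.swap_apply]
  · rw [viaEmbedding_apply_of_notMem _ _ _ hx,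
      swap_apply_of_ne_of_ne (fun h => hx ⟨i, h.symm⟩) (fun h => hx ⟨j, h.symm⟩)]

/-- Transfer of an element of order three from a small symmetric group. -/
theorem three_dvd_of_model {M : Subgroup (Perm α)} {m : ℕ} (l : List α) (hl : l.Nodup) (hm : l.length = m)
    (T : Perm (Fin m)) (h3 : T ^ 3 = 1) (h1 : T ≠ 1)
    (hT : viaEmbeddingHom ⟨fun i : Fin m => l[(i : ℕ)], fun i j h => Fin.ext (hl.getElem_inj_iff.1 h)⟩ T ∈ M) :
    3 ∣ Nat.card M :=
  exists_orderOf_three hT (by rw [← map_pow, h3, map_one])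
    fun h => h1 (viaEmbeddingHom_injective _ (h.trans (map_one _).symm))

/-- Without elements of order three, quads are disjoint or equal. -/
theorem quads_disjoint_or_eq {M : Subgroup (Perm α)} (h3 : ¬ 3 ∣ Nat.card M) {Q R : Finset α}
    (hQ : IsQuad M Q) (hR : IsQuad M R) : _root_.Disjoint Q R ∨ Q = R := by
  classical
  have hle : (Q ∩ R).card ≤ 4 := hQ.1 ▸ Finset.card_le_card Finset.inter_subset_left
  obtain ⟨l, hl, hl4, hlQ, hlS⟩ := hQ.exists_nodup (S := Q ∩ R) Finset.inter_subset_left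
  obtain ⟨r, hr, hr4, hrR, hrS⟩ := hR.exists_nodup (S := Q ∩ R) Finset.inter_subset_right
  match l, hl4, r, hr4 with
  | [a, b, c, d], _, [a', b', c', d'], _ =>
    simp only [List.nodup_cons, List.mem_cons, List.not_mem_nil, or_false, List.mem_singleton,
      List.nodup_nil, and_true, not_or, not_false_eq_true] at hl hr
    obtain ⟨⟨hab, hac, had⟩, ⟨hbc, hbd⟩, hcd⟩ := hl
    obtain ⟨⟨hab', hac', had'⟩, ⟨hbc', hbd'⟩, hcd'⟩ := hr
    have ha : a ∈ Q := hlQ a (by simp)
    have hb : b ∈ Q := hlQ b (by simp)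
    have hc : c ∈ Q := hlQ c (by simp)
    have hd : d ∈ Q := hlQ d (by simp)
    have s0 : a ∈ Q ∩ R ↔ 0 < (Q ∩ R).card := hlS 0 (by simp)
    have s1 : b ∈ Q ∩ R ↔ 1 < (Q ∩ R).card := hlS 1 (by simp)
    have s2 : c ∈ Q ∩ R ↔ 2 < (Q ∩ R).card := hlS 2 (by simp)
    have s3 : d ∈ Q ∩ R ↔ 3 < (Q ∩ R).card := hlS 3 (by simp)
    rcases (show (Q ∩ R).card = 0 ∨ (Q ∩ R).card = 1 ∨ (Q ∩ R).card = 2 ∨ (Q ∩ R).card = 3 ∨
        (Q ∩ R).card = 4 by omega) with e | e | e | e | e
    · exact Or.inl (Finset.disjoint_iff_inter_eq_empty.2 (Finset.card_eq_zero.1 e))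
    · -- one common point
      exfalso
      rw [e] at s0 s1 s2 s3
      have haR : a ∈ R := (Finset.mem_inter.1 (s0.2 (by omega))).2
      have hbR : b ∉ R := fun h => by simpa using s1.1 (Finset.mem_inter.2 ⟨hb, h⟩)
      have hcR : c ∉ R := fun h => by simpa using s2.1 (Finset.mem_inter.2 ⟨hc, h⟩)
      have hdR : d ∉ R := fun h => by simpa using s3.1 (Finset.mem_inter.2 ⟨hd, h⟩)
      obtain ⟨e', f, g, he', hf, hg, hnd⟩ : ∃ e f g, e ∈ R ∧ f ∈ R ∧ g ∈ R ∧ [a, e, f, g].Nodup := by
        obtain ⟨u, hu, hu4, huR, huS⟩ := hR.exists_nodup (S := {a}) (Finset.singleton_subset_iff.2 haR)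
        match u, hu4 with
        | [u0, u1, u2, u3], _ =>
          obtain rfl : u0 = a := Finset.mem_singleton.1 ((huS 0 (by simp)).2 (by simp))
          exact ⟨u1, u2, u3, huR u1 (by simp), huR u2 (by simp), huR u3 (by simp), hu⟩
      simp only [List.nodup_cons, List.mem_cons, List.not_mem_nil, or_false, List.mem_singleton,
        List.nodup_nil, and_true, not_or, not_false_eq_true] at hnd
      obtain ⟨⟨hae, haf, hag⟩, ⟨hef, heg⟩, hfg⟩ := hnd
      have ht := hQ.2 a b c d ha hb hc hd (by simp [hab, hac, had, hbc, hbd, hcd])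
      have hu := hR.2 a e' f g haR he' hf hg (by simp [hae, haf, hag, hef, heg, hfg])
      have hne : ∀ x ∈ R, b ≠ x ∧ c ≠ x ∧ d ≠ x := fun x hx =>
        ⟨fun h => hbR (h ▸ hx), fun h => hcR (h ▸ hx), fun h => hdR (h ▸ hx)⟩
      obtain ⟨hbe, hce, hde⟩ := hne e' he'
      obtain ⟨hbf, hcf, hdf⟩ := hne f hf
      obtain ⟨hbg, hcg, hdg⟩ := hne g hg
      refine h3 (three_dvd_of_model (m := 7) [a, b, c, d, e', f, g]
        (by simp [hab, hac, had, hbc, hbd, hcd, hae, haf, hag, hef, heg, hfg, hbe, hce, hde, hbf, hcf, hdf,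
          hbg, hcg, hdg]) rfl
        ((swap 0 1 * swap 2 3 * (swap 0 4 * swap 5 6)) ^ 2) (by decide +kernel) (by decide +kernel) ?_)
      simp only [map_pow, map_mul, viaEmbeddingHom_swap]
      exact pow_mem (mul_mem ht hu) 2
    · -- two common points
      exfalso
      rw [e] at s0 s1 s2 s3
      have hcR : c ∉ R := fun h => by simpa using s2.1 (Finset.mem_inter.2 ⟨hc, h⟩)
      have hdR : d ∉ R := fun h => by simpa using s3.1 (Finset.mem_inter.2 ⟨hd, h⟩)
      obtain ⟨e', f, he', hf, hnd⟩ : ∃ e f, e ∈ R ∧ f ∈ R ∧ [a, e, b, f].Nodup := by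
        have haR : a ∈ R := (Finset.mem_inter.1 (s0.2 (by omega))).2
        have hbR : b ∈ R := (Finset.mem_inter.1 (s1.2 (by omega))).2
        obtain ⟨u, hu, hu4, huR, huS⟩ := hR.exists_nodup (S := {a, b})
          (Finset.insert_subset_iff.2 ⟨haR, Finset.singleton_subset_iff.2 hbR⟩)
        match u, hu4 with
        | [u0, u1, u2, u3], _ =>
          refine ⟨u2, u3, huR u2 (by simp), huR u3 (by simp), ?_⟩
          have h2 : u2 ∉ ({a, b} : Finset α) := fun h => by
            have := (huS 2 (by simp)).1 h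
            simp [hab] at this
          have h3' : u3 ∉ ({a, b} : Finset α) := fun h => by
            have := (huS 3 (by simp)).1 h
            simp [hab] at this
          simp only [Finset.mem_insert, Finset.mem_singleton, not_or] at h2 h3'
          simp only [List.nodup_cons, List.mem_cons, List.not_mem_nil, or_false, List.mem_singleton,
            List.nodup_nil, and_true, not_or, not_false_eq_true] at hu ⊢
          exact ⟨⟨Ne.symm h2.1, hab, Ne.symm h3'.1⟩, ⟨h2.2, hu.2.2⟩, Ne.symm h3'.2⟩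
      simp only [List.nodup_cons, List.mem_cons, List.not_mem_nil, or_false, List.mem_singleton,
        List.nodup_nil, and_true, not_or, not_false_eq_true] at hnd
      obtain ⟨⟨hae, -, haf⟩, ⟨heb, hef⟩, hbf⟩ := hnd
      have ht := hQ.2 a c b d ha hc hb hd (by simp [hab, hac, had, Ne.symm hbc, hbd, hcd])
      have hu := hR.2 a e' b f (Finset.mem_inter.1 (s0.2 (by omega))).2 he'
        (Finset.mem_inter.1 (s1.2 (by omega))).2 hf (by simp [hab, hae, haf, heb, hef, hbf])
      have hne : ∀ x ∈ R, c ≠ x ∧ d ≠ x := fun x hx => ⟨fun h => hcR (h ▸ hx), fun h => hdR (h ▸ hx)⟩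
      obtain ⟨hce, hde⟩ := hne e' he'
      obtain ⟨hcf, hdf⟩ := hne f hf
      refine h3 (three_dvd_of_model (m := 6) [a, b, c, d, e', f]
        (by simp [hab, hac, had, hbc, hbd, hcd, hae, haf, Ne.symm heb, hef, hbf, hce, hde, hcf, hdf]) rfl
        (swap 0 2 * swap 1 3 * (swap 0 4 * swap 1 5)) (by decide +kernel) (by decide +kernel) ?_)
      simp only [map_mul, viaEmbeddingHom_swap]
      exact mul_mem ht hu
    · -- three common points
      exfalso
      rw [e] at s0 s1 s2 s3
      have haR : a ∈ R := (Finset.mem_inter.1 (s0.2 (by omega))).2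
      have hbR : b ∈ R := (Finset.mem_inter.1 (s1.2 (by omega))).2
      have hcR : c ∈ R := (Finset.mem_inter.1 (s2.2 (by omega))).2
      have hdR : d ∉ R := fun h => by simpa using s3.1 (Finset.mem_inter.2 ⟨hd, h⟩)
      obtain ⟨g, hgR, hga, hgb, hgc⟩ : ∃ g ∈ R, g ≠ a ∧ g ≠ b ∧ g ≠ c := by
        by_contra hcon
        push Not at hcon
        have hsub : R ⊆ {a, b, c} := fun x hx => by
          simp only [Finset.mem_insert, Finset.mem_singleton]
          by_contra hx'
          push Not at hx'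
          exact hx'.2.2 (hcon x hx hx'.1 hx'.2.1)
        have := (Finset.card_le_card hsub).trans Finset.card_le_three
        rw [hR.1] at this
        omega
      have hdg : d ≠ g := fun h => hdR (h ▸ hgR)
      have ht := hQ.2 a b c d ha hb hc hd (by simp [hab, hac, had, hbc, hbd, hcd])
      have hu := hR.2 a b c g haR hbR hcR hgR
        (by simp [hab, hac, hbc, Ne.symm hga, Ne.symm hgb, Ne.symm hgc])
      refine h3 (three_dvd_of_model (m := 5) [a, b, c, d, g]
        (by simp [hab, hac, had, hbc, hbd, hcd, Ne.symm hga, Ne.symm hgb, Ne.symm hgc, hdg]) rfl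
        (swap 0 1 * swap 2 3 * (swap 0 1 * swap 2 4)) (by decide +kernel) (by decide +kernel) ?_)
      simp only [map_mul, viaEmbeddingHom_swap]
      exact mul_mem ht hu
    · right
      have h1 : Q ∩ R = Q := Finset.eq_of_subset_of_card_le Finset.inter_subset_left (by rw [hQ.1, e])
      have h2 : Q ∩ R = R := Finset.eq_of_subset_of_card_le Finset.inter_subset_right (by rw [hR.1, e])
      exact h1.symm.trans h2

/-- A `p`-cycle, `p ≥ 5`, avoids every quad. -/
theorem cycle_avoids_quad {M : Subgroup (Perm α)} (h3 : ¬ 3 ∣ Nat.card M) {x : Perm α} (hx : x ∈ M)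
    (hc : x.IsCycle) (h5 : 5 ≤ x.support.card) (hp : x.support.card.Prime) {Q : Finset α}
    (hQ : IsQuad M Q) : _root_.Disjoint x.support Q := by
  rw [Finset.disjoint_left]
  intro a hax haQ
  have hinv : ∀ z ∈ M, (∃ b ∈ Q, z b ∈ Q) → ∀ b ∈ Q, z b ∈ Q := by
    rintro z hz ⟨b, hb, hzb⟩ c hc'
    rcases quads_disjoint_or_eq h3 (hQ.conj hz) hQ with h | h
    · exact absurd hzb (Finset.disjoint_left.1 h (Finset.mem_map_of_mem _ hb))
    · exact h ▸ Finset.mem_map_of_mem _ hc'
  have hfix : ∀ b ∈ Q, x b ∈ Q := by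
    by_cases h : ∃ b ∈ Q, b ≠ a ∧ b ∈ x.support
    · obtain ⟨b, hbQ, hba, hbx⟩ := h
      obtain ⟨i, hi, hib⟩ := (hc.sameCycle (mem_support.1 hax) (mem_support.1 hbx)).exists_pow_eq'
      rw [hc.orderOf] at hi
      have hi0 : i ≠ 0 := fun e => hba (by rw [e] at hib; simpa using hib.symm)
      have hz := hinv (x ^ i) (pow_mem hx i) ⟨a, haQ, hib ▸ hbQ⟩
      have hcop : i.Coprime x.support.card :=
        ((Nat.Prime.coprime_iff_not_dvd hp).2 (Nat.not_dvd_of_pos_of_lt (by omega) hi)).symm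
      obtain ⟨m, hm⟩ := exists_pow_eq_self_of_coprime (x := x) (n := i) (by rwa [hc.orderOf])
      intro c hc'
      rw [← hm]
      clear hm
      induction m with
      | zero => simpa using hc'
      | succ m ih =>
        rw [pow_succ', Perm.mul_apply]
        exact hz _ ih
    · push Not at h
      obtain ⟨b, hb, hba⟩ : ∃ b ∈ Q, b ≠ a := Finset.exists_mem_ne (by rw [hQ.1]; omega) a
      exact hinv x hx ⟨b, hb, by rwa [notMem_support.1 (h b hb hba)]⟩
  have hall : x.support ⊆ Q := fun b hb => by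
    obtain ⟨i, hi, rfl⟩ := (hc.sameCycle (mem_support.1 hax) (mem_support.1 hb)).exists_pow_eq'
    clear hi hb
    induction i with
    | zero => simpa using haQ
    | succ i ih =>
      rw [pow_succ', Perm.mul_apply]
      exact hfix _ ih
  have := Finset.card_le_card hall
  rw [hQ.1] at this
  omega

/-- Disjoint quads covering all but at most three points. -/
theorem exists_quads {π : Set ℕ} {M : Subgroup (Perm α)} (hM : IsAltHall π M) (h2 : 2 ∈ π)
    (hn : 2 ≤ Fintype.card α) :
    ∃ W : Finset α, Fintype.card α ≤ W.card + 3 ∧ ∀ a ∈ W, ∃ Q, IsQuad M Q ∧ a ∈ Q := by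
  classical
  set k := Fintype.card α / 4 with hk
  let V := Multiplicative (ZMod 2 × ZMod 2)
  have hVc : Fintype.card V = 4 := rfl
  obtain ⟨e⟩ : Nonempty (Fin k × V ↪ α) :=
    Function.Embedding.nonempty_of_card_le (by
      rw [Fintype.card_prod, Fintype.card_fin, hVc]; exact Nat.div_mul_le_self _ _)
  let Φ : (Fin k → V) →* Perm α := (viaEmbeddingHom e).comp (MonoidHom.mk'
    (fun v => Equiv.prodCongrRight fun i => Equiv.mulLeft (v i))
    (fun v w => Equiv.ext fun x => Prod.ext rfl (mul_assoc _ _ _)))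
  have hΦ : ∀ v i w, Φ v (e (i, w)) = e (i, v i * w) := fun v i w =>
    Equiv.Perm.viaEmbedding_apply _ e (i, w)
  have hΦ' : ∀ v x, x ∉ Set.range e → Φ v x = x := fun v x hx =>
    Equiv.Perm.viaEmbedding_apply_of_notMem _ e x hx
  have hP : IsPGroup 2 Φ.range := by
    rintro ⟨_, v, rfl⟩
    refine ⟨1, Subtype.ext ?_⟩
    show Φ v ^ (2 ^ 1) = 1
    rw [← map_pow, show v ^ (2 ^ 1) = 1 from funext fun i =>
      (by decide : ∀ u : V, u ^ (2 ^ 1) = 1) (v i), map_one]
  have hA : Φ.range ≤ alternatingGroup α := by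
    rintro _ ⟨v, rfl⟩
    rw [mem_alternatingGroup]
    show sign (viaEmbedding (Equiv.prodCongrRight fun i => Equiv.mulLeft (v i)) e) = 1
    simp only [viaEmbedding, sign_extendDomain]
    rw [sign_prodCongrRight]
    exact Finset.prod_eq_one fun i _ => (by decide : ∀ u : V, sign (Equiv.mulLeft u) = 1) (v i)
  obtain ⟨g, hg⟩ := exists_conj_mem hM Nat.prime_two h2 hn hP hA
  refine ⟨(Finset.univ : Finset (Fin k × V)).map (e.trans g.toEmbedding), ?_, fun a ha => ?_⟩
  · rw [Finset.card_map, Finset.card_univ, Fintype.card_prod, Fintype.card_fin, hVc, hk]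
    omega
  · obtain ⟨⟨i, w⟩, -, rfl⟩ := Finset.mem_map.1 ha
    let f : V ↪ α := ⟨fun u => g (e (i, u)), fun u u' h => congrArg Prod.snd (e.injective (g.injective h))⟩
    refine ⟨Finset.univ.map f, ⟨by rw [Finset.card_map, Finset.card_univ, hVc], ?_⟩,
      Finset.mem_map.2 ⟨w, Finset.mem_univ _, rfl⟩⟩
    intro a b c d ha hb hc hd hnd
    simp only [Finset.mem_map, Finset.mem_univ, true_and] at ha hb hc hd
    obtain ⟨a, rfl⟩ := ha
    obtain ⟨b, rfl⟩ := hb
    obtain ⟨c, rfl⟩ := hc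
    obtain ⟨d, rfl⟩ := hd
    have hnd' : [a, b, c, d].Nodup := List.Nodup.of_map f (by simpa using hnd)
    have hdec : ∀ a b c d : V, [a, b, c, d].Nodup → ∀ u : V,
        a * b * u = (swap a b * swap c d) u := by decide
    have key : g * Φ (Pi.mulSingle i (a * b)) * g⁻¹ = swap (f a) (f b) * swap (f c) (f d) := by
      have h0 : Φ (Pi.mulSingle i (a * b)) =
          swap (e (i, a)) (e (i, b)) * swap (e (i, c)) (e (i, d)) := by
        ext x
        by_cases hx : x ∈ Set.range e
        · obtain ⟨⟨j, u⟩, rfl⟩ := hx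
          rw [hΦ, Perm.mul_apply, e.swap_apply, e.swap_apply]
          congr 1
          by_cases hj : j = i
          · subst hj
            rw [Pi.mulSingle_eq_same, hdec a b c d hnd' u, Perm.mul_apply]
            have hj : Function.Injective (Prod.mk j : V → Fin k × V) := Prod.mk_right_injective j
            rw [hj.swap_apply, hj.swap_apply]
          · have hji : ∀ w, (j, u) ≠ (i, w) := fun w h => hj (congrArg Prod.fst h)
            rw [Pi.mulSingle_eq_of_ne hj, one_mul, swap_apply_of_ne_of_ne (hji c) (hji d),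
              swap_apply_of_ne_of_ne (hji a) (hji b)]
        · have hne : ∀ y, x ≠ e y := fun y h => hx ⟨y, h.symm⟩
          rw [hΦ' _ x hx, Perm.mul_apply, swap_apply_of_ne_of_ne (hne _) (hne _),
            swap_apply_of_ne_of_ne (hne _) (hne _)]
      rw [h0, show g * (swap (e (i, a)) (e (i, b)) * swap (e (i, c)) (e (i, d))) * g⁻¹ =
        g * swap (e (i, a)) (e (i, b)) * g⁻¹ * (g * swap (e (i, c)) (e (i, d)) * g⁻¹) by group,
        conj_swap, conj_swap]
      rfl
    rw [← key]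
    exact hg _ ⟨_, rfl⟩

/-- A Hall subgroup with `2 ∈ π` and an odd prime of `π` contains an element of order three. -/
theorem three_mem {π : Set ℕ} {M : Subgroup (Perm α)} (hM : IsAltHall π M) (h2 : 2 ∈ π) {p : ℕ}
    (hp : p.Prime) (hp2 : p ≠ 2) (hpπ : p ∈ π) (hpn : p ≤ Fintype.card α) : 3 ∈ π := by
  by_contra h3π
  have h3 : ¬ 3 ∣ Nat.card M := fun h => h3π (hM.pi 3 Nat.prime_three h)
  have hp5 : 5 ≤ p := hp.five_le_of_ne_two_of_ne_three hp2 fun e => h3π (e ▸ hpπ)
  obtain ⟨σ, hσ, hC⟩ := exists_cycles hM hp hp2 hpπ hpn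
  obtain ⟨a, ha⟩ : σ.support.Nonempty := Finset.card_pos.1 (by omega)
  obtain ⟨x, hxσ, -⟩ := exists_cycle_apply ha
  obtain ⟨hxM, hxc, hxs⟩ := hC x hxσ
  obtain ⟨W, hW, hWQ⟩ := exists_quads hM h2 (hp.two_le.trans hpn)
  have hd : _root_.Disjoint x.support W := Finset.disjoint_left.2 fun b hb hbW => by
    obtain ⟨Q, hQ, hbQ⟩ := hWQ b hbW
    exact Finset.disjoint_left.1 (cycle_avoids_quad h3 hxM hxc (hxs ▸ hp5) (hxs ▸ hp) hQ) hb hbQ
  have := (Finset.card_union_of_disjoint hd).symm.trans_le (Finset.card_le_univ _)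
  omega

end Cfsg.Lib.SymHall
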