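import Cfsg.Agent.SymHall.Classify

/-!
# The Hall subgroups containing a three-cycle
-/

set_option autoImplicit false
set_option linter.unusedSectionVars false
set_option linter.style.haveILetI false

namespace Cfsg.Lib.SymHall

open Equiv Equiv.Perm

variable {α : Type*} [Fintype α] [DecidableEq α]

theorem card_cls_relStab {M : Subgroup (Perm α)} {g : Perm α} (hg : g ∈ relStab (cycleSetoid M).r) (a : α) :
    (cls M (g a)).card = (cls M a).card := by
  rw [← Finset.card_map g.toEmbedding (s := cls M a)]
  congr 1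
  ext z
  rw [Finset.mem_map_equiv, mem_cls, mem_cls]
  have := hg a (g.symm z)
  rw [Equiv.apply_symm_apply] at this
  exact this

theorem self_mem_cls (M : Subgroup (Perm α)) (a : α) : a ∈ cls M a := mem_cls.2 (Or.inl rfl)

theorem card_cls_cases (M : Subgroup (Perm α)) (a : α) : (cls M a).card = 1 ∨ 3 ≤ (cls M a).card := by
  by_cases h : ∀ z ∈ cls M a, z = a
  · exact Or.inl (Finset.card_eq_one.2 ⟨a, Finset.eq_singleton_iff_unique_mem.2 ⟨self_mem_cls M a, h⟩⟩)
  · push Not at h
    obtain ⟨z, hz, hza⟩ := h
    obtain ⟨t, ht, ht3, hat, -⟩ := (mem_cls.1 hz).resolve_left (Ne.symm hza)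
    exact Or.inr (ht3 ▸ Finset.card_le_card fun w hw => mem_cls.2 (Or.inr ⟨t, ht, ht3, hat, hw⟩))

/-- A saturated set all of whose classes have size `c`. -/
theorem card_saturated {M : Subgroup (Perm α)} {U : Finset α} {c : ℕ}
    (hs : ∀ a ∈ U, cls M a ⊆ U) (hc : ∀ a ∈ U, (cls M a).card = c) :
    ∃ k, U.card = c * k := by
  classical
  refine ⟨(U.image (cls M)).card, ?_⟩
  rw [Finset.card_eq_sum_card_image (cls M) U, Finset.sum_const_nat (m := c), mul_comm]
  intro C hC
  obtain ⟨a, ha, rfl⟩ := Finset.mem_image.1 hC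
  rw [← hc a ha]
  congr 1
  ext x
  simp only [Finset.mem_filter]
  exact ⟨fun h => h.2 ▸ self_mem_cls M x, fun h => ⟨hs a ha h, cls_eq_of_rel (mem_cls.1 h)⟩⟩

theorem cls_eq_self_of_card {M : Subgroup (Perm α)} {B : Finset α} {a : α} (h : cls M a ⊆ B)
    (hc : B.card ≤ (cls M a).card) : cls M a = B := Finset.eq_of_subset_of_card_le h hc

/-- Hall subgroups containing a three-cycle are stabilisers of partitions into two parts. -/
theorem classify {π : Set ℕ} {M : Subgroup (Perm α)} (hM : IsAltHall π M) (h2 : 2 ∈ π) (h3 : 3 ∈ π)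
    (hn : 3 ≤ Fintype.card α) (hns : ∃ r : ℕ, r.Prime ∧ r ≤ Fintype.card α ∧ r ∉ π) :
    ∃ B : Finset α, M = alternatingGroup α ⊓ pairStab B ∧
      Subgroup.normalizer (M : Set (Perm α)) ≤ pairStab B ∧
      (((Fintype.card α).Prime ∧ B.card + 1 = Fintype.card α ∧
          ∀ r : ℕ, r.Prime → r ≤ Fintype.card α → (r ∈ π ↔ r < Fintype.card α)) ∨
        ((Fintype.card α = 7 ∨ Fintype.card α = 8) ∧ B.card = 4 ∧
          ∀ r : ℕ, r.Prime → r ≤ Fintype.card α → (r ∈ π ↔ (r = 2 ∨ r = 3)))) := by
  classical
  haveI : Nonempty α := Fintype.card_pos_iff.1 (by omega)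
  haveI : Nontrivial α := Fintype.one_lt_card_iff_nontrivial.1 (by omega)
  set n := Fintype.card α with hndef
  let f : α → ℕ := fun a => (cls M a).card
  let U : ℕ → Finset α := fun c => Finset.univ.filter fun a => f a = c
  have memU : ∀ {c a}, a ∈ U c ↔ f a = c := by intro c a; simp [U]
  have hsat : ∀ c, ∀ a ∈ U c, cls M a ⊆ U c := fun c a ha x hx =>
    memU.2 ((congrArg Finset.card (cls_eq_of_rel (mem_cls.1 hx))).trans (memU.1 ha))
  -- at most two single points
  have hsing : (U 1).card ≤ 2 := by
    obtain ⟨σ, hσ, hC⟩ := exists_cycles hM Nat.prime_three (by omega) h3 hn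
    have : U 1 ⊆ σ.supportᶜ := fun a ha => Finset.mem_compl.2 fun has => by
      obtain ⟨x, hx, hax⟩ := exists_cycle_apply has
      obtain ⟨hxM, -, hxs⟩ := hC x hx
      have hle : x.support ⊆ cls M a := fun w hw => mem_cls.2 (Or.inr ⟨x, hxM, hxs, hax, hw⟩)
      have := Finset.card_le_card hle
      have := memU.1 ha
      simp only [f] at this
      omega
    have := Finset.card_le_card this
    rw [Finset.card_compl] at this
    omega
  obtain ⟨a₀, -, hmax⟩ := Finset.exists_max_image Finset.univ f Finset.univ_nonempty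
  set b := f a₀ with hbdef
  have hmax : ∀ a, f a ≤ b := fun a => hmax a (Finset.mem_univ a)
  have hb3 : 3 ≤ b := by
    refine (card_cls_cases M a₀).resolve_left fun h1 => ?_
    have hall : (Finset.univ : Finset α) ⊆ U 1 := fun a _ => memU.2 (by
      have := hmax a
      have := Finset.card_pos.2 ⟨a, self_mem_cls M a⟩
      simp only [f, b] at *
      omega)
    have := Finset.card_le_card hall
    rw [Finset.card_univ] at this
    omega
  -- the primes of `π`
  have hbn : b ≤ n := Finset.card_le_univ _
  have hiff : ∀ r : ℕ, r.Prime → r ≤ n → (r ∈ π ↔ r ≤ b) := by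
    refine fun r hr hrn => ⟨fun hrπ => ?_, fun hrb => ?_⟩
    · rcases le_or_gt r 3 with h | h
      · omega
      obtain ⟨σ, hσ, hC⟩ := exists_cycles hM hr (by omega) hrπ hrn
      obtain ⟨w, hw⟩ : σ.support.Nonempty := Finset.card_pos.1 (by omega)
      obtain ⟨x, hxσ, -⟩ := exists_cycle_apply hw
      obtain ⟨hxM, hxc, hxs⟩ := hC x hxσ
      obtain ⟨a, ha, ha1⟩ : ∃ a ∈ x.support, a ∉ U 1 := by
        by_contra hno
        push Not at hno
        have := Finset.card_le_card (show x.support ⊆ U 1 from hno)
        omega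
      have hfa : 3 ≤ f a := (card_cls_cases M a).resolve_left fun e => ha1 (memU.2 e)
      have hrel := le_relStab M hxM
      by_cases hax : cycleRel M a (x a)
      · have hsub : x.support ⊆ cls M a := fun z hz => by
          obtain ⟨m, hm⟩ := hxc.exists_pow_eq (mem_support.1 ha) (mem_support.1 hz)
          rw [← hm, mem_cls]
          clear hm
          induction m with
          | zero => exact Or.inl rfl
          | succ m ih =>
            rw [pow_succ', Perm.mul_apply]
            exact cycleRel_trans hax ((hrel _ _).2 ih)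
        exact hxs ▸ (Finset.card_le_card hsub).trans (hmax a)
      · have hz : ∀ z ∈ x.support, ¬ cycleRel M z (x z) ∧ f z = f a := fun z hz => by
          obtain ⟨m, hm⟩ := hxc.exists_pow_eq (mem_support.1 ha) (mem_support.1 hz)
          have hmM := le_relStab M (pow_mem hxM m)
          refine ⟨fun h => hax ?_, hm ▸ card_cls_relStab hmM a⟩
          rw [← hm, ← Perm.mul_apply, ← pow_succ', pow_succ, Perm.mul_apply] at h
          exact (hmM _ _).1 h
        obtain ⟨m, hm⟩ := card_saturated (M := M) (U := x.support) (c := f a)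
          (fun z hzs w hw => mem_support.2 fun e => (hz z hzs).1
            (cycleRel_trans (mem_cls.1 hw) (by
              have := (hrel z w).2 (mem_cls.1 hw)
              rw [e] at this
              exact (cycleSetoid M).iseqv.symm this)))
          (fun z hzs => (hz z hzs).2)
        rcases (Nat.dvd_prime hr).1 ⟨m, hxs.symm.trans hm⟩ with e | e
        · omega
        · exact e ▸ hmax a
    · rcases eq_or_ne r 2 with rfl | h
      · exact h2
      · exact hM.pi r hr (odd_prime_dvd_card (a := a₀) hr h hrb)
  -- the stabiliser of the partition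
  set N := relStab (cycleSetoid M).r with hN
  have hMN : M ≤ N := le_relStab M
  have hindex : ∀ p : ℕ, p.Prime → p ≤ b → ¬ p ∣ N.index := by
    intro p hp hpb hd
    have hd' := hd.trans (Subgroup.index_dvd_of_le hMN)
    rcases eq_or_ne p 2 with rfl | h
    · obtain ⟨a', ha', hne⟩ := Finset.exists_mem_ne (show 1 < f a₀ by omega) a₀
      have hsw : swap a₀ a' ∈ N := by
        have hz : ∀ z, cycleRel M z (swap a₀ a' z) := fun z => by
          rcases eq_or_ne z a₀ with rfl | h1
          · rw [swap_apply_left]; exact mem_cls.1 ha'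
          rcases eq_or_ne z a' with rfl | h2
          · rw [swap_apply_right]; exact (cycleSetoid M).iseqv.symm (mem_cls.1 ha')
          · rw [swap_apply_of_ne_of_ne h1 h2]; exact Or.inl rfl
        refine fun x y => ⟨fun h => cycleRel_trans (hz x) (cycleRel_trans h
          ((cycleSetoid M).iseqv.symm (hz y))), fun h => cycleRel_trans
            ((cycleSetoid M).iseqv.symm (hz x)) (cycleRel_trans h (hz y))⟩
      have hev : 2 ∣ M.relIndex N := by
        have h1 : (alternatingGroup α).relIndex N ∣ M.relIndex N := Subgroup.relIndex_dvd_of_le_left _ hM.le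
        have h2' : (alternatingGroup α).relIndex N ∣ 2 := by
          rw [← alternatingGroup.index_eq_two (α := α)]
          exact Subgroup.relIndex_dvd_index_of_normal _ _
        rcases (Nat.dvd_prime Nat.prime_two).1 h2' with e | e
        · have := mem_alternatingGroup.1 ((Subgroup.relIndex_eq_one.1 e) hsw)
          rw [sign_swap hne.symm] at this
          exact absurd this (by decide)
        · exact e ▸ h1
      refine hM.two h2 ?_
      rw [← Subgroup.relIndex_mul_index hMN]
      exact Nat.mul_dvd_mul hev hd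
    · exact hM.odd p hp h ((hiff p hp (hpb.trans hbn)).2 hpb) hd'
  have hcls : ∀ a, (Finset.univ.filter fun x => (cycleSetoid M).r a x) = cls M a := fun a => by
    ext x; rw [mem_cls, Finset.mem_filter]; exact ⟨fun h => h.2, fun h => ⟨Finset.mem_univ _, h⟩⟩
  obtain ⟨k, hk⟩ := card_saturated (hsat b) (fun a ha => memU.1 ha)
  have hk1 : 1 ≤ k := by
    have := Finset.card_pos.2 ⟨a₀, (memU (c := b)).2 rfl⟩
    rcases Nat.eq_zero_or_pos k with h | h
    · rw [h, mul_zero] at hk; omega
    · exact h
  obtain ⟨G, hG, hG2, hG3⟩ := exists_uniform b k (by omega)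
  -- one layer
  have hD₁ : G * n.choose (b * k) ∣ N.index := by
    have h := two_layer_dvd_index (cycleSetoid M) N le_rfl (U b) ∅ (Finset.disjoint_empty_right _)
      (fun g hg a => by rw [memU, memU, show f (g a) = f a from card_cls_relStab hg a]) (by simp)
      (fun a x h ha => hsat b a ha (mem_cls.2 h)) (by simp)
      (b₁ := b) (k₁ := k) (b₂ := 1) (k₂ := 0) (G₂ := 1) (by omega) le_rfl hk.symm (by simp)
      (fun a ha => by rw [hcls]; exact memU.1 ha) (by simp) hG (by simp)
    simpa [hk] using h
  have hk2 : k = 1 ∨ (k = 2 ∧ b = 4) := by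
    rcases Nat.lt_or_ge k 2 with h | h
    · exact Or.inl (by omega)
    have hb4 : b = 4 := middle_lemma hb3 fun p hp hpb hd =>
      hindex p hp hpb ((hd.trans (hG2 h)).trans ((dvd_mul_right _ _).trans hD₁))
    rcases Nat.lt_or_ge k 3 with h' | h'
    · exact Or.inr ⟨by omega, hb4⟩
    · exfalso
      have h5 := (hG3 h').trans ((dvd_mul_right _ _).trans hD₁)
      rw [hb4] at h5
      exact hindex 3 Nat.prime_three (by omega)
        ((show 3 ∣ (3 * 4 - 1).choose (4 - 1) by decide).trans h5)
  -- two layers
  have hvals : ∀ a, f a = 1 ∨ f a = b ∨ (b = 4 ∧ k = 1 ∧ f a = 3 ∧ (U 3).card = 3 ∧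
      35 * n.choose 7 ∣ N.index) := by
    intro a
    rcases card_cls_cases M a with h | h
    · exact Or.inl h
    rcases eq_or_lt_of_le (hmax a) with e | hlt
    · exact Or.inr (Or.inl e)
    refine Or.inr (Or.inr ?_)
    set c := f a with hc
    obtain ⟨l, hl⟩ := card_saturated (hsat c) (fun a ha => memU.1 ha)
    have hl1 : 1 ≤ l := by
      have := Finset.card_pos.2 ⟨a, (memU (c := c)).2 rfl⟩
      rcases Nat.eq_zero_or_pos l with h | h
      · rw [h, mul_zero] at hl; omega
      · exact h
    have hc3 : 3 ≤ c := h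
    obtain ⟨G', hG', hG2', -⟩ := exists_uniform c l (by omega)
    have hD := two_layer_dvd_index (cycleSetoid M) N le_rfl (U b) (U c)
      (Finset.disjoint_left.2 fun x hx hx' => by rw [memU] at hx hx'; omega)
      (fun g hg a => by rw [memU, memU, show f (g a) = f a from card_cls_relStab hg a])
      (fun g hg a => by rw [memU, memU, show f (g a) = f a from card_cls_relStab hg a])
      (fun a x h ha => hsat b a ha (mem_cls.2 h)) (fun a x h ha => hsat c a ha (mem_cls.2 h))
      (b₁ := b) (k₁ := k) (b₂ := c) (k₂ := l) (by omega) (by omega) hk.symm hl.symm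
      (fun a ha => by rw [hcls]; exact memU.1 ha) (fun a ha => by rw [hcls]; exact memU.1 ha) hG hG'
    rw [hk, hl] at hD
    have hnot : ∀ p : ℕ, p.Prime → p ≤ b → ∀ X, X ∣ G * G' * (b * k + c * l).choose (c * l) *
        n.choose (b * k + c * l) → ¬ p ∣ X := fun p hp hpb X hX hpX => hindex p hp hpb (hpX.trans (hX.trans hD))
    have hl' : l = 1 := by
      by_contra hne
      have hdiv : (2 * c - 1).choose (c - 1) ∣
          G * G' * (b * k + c * l).choose (c * l) * n.choose (b * k + c * l) :=
        dvd_mul_of_dvd_left (dvd_mul_of_dvd_left (dvd_mul_of_dvd_right (hG2' (by omega)) G) _) _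
      have hc4 : c = 4 := middle_lemma hc3 fun p hp hpc => hnot p hp (by omega) _ hdiv
      refine hnot 5 Nat.prime_five (by omega) _ hdiv ?_
      rw [hc4]; decide
    subst hl'
    rw [mul_one] at hl hnot hD
    have hch : (b * k + c).choose c ∣ G * G' * (b * k + c).choose c * n.choose (b * k + c) :=
      (dvd_mul_left _ _).mul_right _
    rcases hk2 with rfl | ⟨rfl, hb4⟩
    · rw [mul_one] at hch hnot hD
      obtain ⟨hb4, hc34⟩ := pair_lemma hb3 (by omega) hlt fun p hp hpb => hnot p hp hpb _ hch
      refine ⟨hb4, rfl, hc34, hc34 ▸ hl, ?_⟩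
      rw [hb4, hc34, (by decide : Nat.choose (4 + 3) 3 = 35)] at hD
      exact (Nat.mul_dvd_mul_right (dvd_mul_left _ _) _).trans hD
    · exfalso
      have hc34 : c = 3 := by omega
      rw [hb4, hc34] at hch
      rw [hb4, hc34] at hnot
      exact hnot 3 Nat.prime_three (by omega) _ hch (by decide)
  -- the two parts
  have key : (∀ a, a ∉ cls M a₀ → (cls M a₀)ᶜ.card ≤ f a) →
      Subgroup.normalizer (M : Set (Perm α)) ≤ pairStab (cls M a₀) := by
    intro hbig g hg
    have hr : ∀ x y, cycleRel M x y ↔ (x ∈ cls M a₀ ↔ y ∈ cls M a₀) := by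
      intro x y
      refine ⟨fun h => ?_, fun h => ?_⟩
      · simp only [mem_cls]
        exact ⟨fun h' => cycleRel_trans h' h, fun h' => cycleRel_trans h' ((cycleSetoid M).iseqv.symm h)⟩
      by_cases hx : x ∈ cls M a₀
      · exact cycleRel_trans ((cycleSetoid M).iseqv.symm (mem_cls.1 hx)) (mem_cls.1 (h.1 hx))
      · have hsub : cls M x ⊆ (cls M a₀)ᶜ := fun w hw => Finset.mem_compl.2 fun hw' => hx (mem_cls.2
          (cycleRel_trans (mem_cls.1 hw') ((cycleSetoid M).iseqv.symm (mem_cls.1 hw))))
        rw [← mem_cls, cls_eq_self_of_card hsub (hbig x hx)]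
        exact Finset.mem_compl.2 fun hy => hx (h.2 hy)
    intro x y
    show (g x ∈ cls M a₀ ↔ g y ∈ cls M a₀) ↔ (x ∈ cls M a₀ ↔ y ∈ cls M a₀)
    rw [← hr, ← hr]
    exact normalizer_le_relStab M hg x y
  have finish : (∀ a, a ∉ cls M a₀ → (cls M a₀)ᶜ.card ≤ f a) → n ≤ 2 * b →
      M = alternatingGroup α ⊓ pairStab (cls M a₀) ∧
        Subgroup.normalizer (M : Set (Perm α)) ≤ pairStab (cls M a₀) := by
    intro hbig hnb
    refine ⟨?_, key hbig⟩
    set L := alternatingGroup α ⊓ pairStab (cls M a₀) with hL
    have hle : M ≤ L := le_inf hM.le (Subgroup.le_normalizer.trans (key hbig))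
    refine le_antisymm hle ?_
    rw [← Subgroup.relIndex_eq_one, Nat.eq_one_iff_not_exists_prime_dvd]
    intro p hp hd
    have hpL : p ∣ 2 * (b.factorial * (n - b).factorial) :=
      (hd.trans (Subgroup.relIndex_dvd_card _ _)).trans
        ((Subgroup.card_dvd_of_le inf_le_right).trans (card_pairStab_dvd _))
    have hpb : p ≤ b := by
      rcases hp.dvd_mul.1 hpL with h | h
      · have := Nat.le_of_dvd (by omega) h; omega
      rcases hp.dvd_mul.1 h with h | h
      · exact hp.dvd_factorial.1 h
      · have := hp.dvd_factorial.1 h; omega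
    have hmul := Subgroup.relIndex_mul_index hle
    have hpπ := (hiff p hp (hpb.trans hbn)).2 hpb
    rcases eq_or_ne p 2 with rfl | h
    · refine hM.two h2 ?_
      rw [← hmul, show (4 : ℕ) = 2 * 2 from rfl]
      refine Nat.mul_dvd_mul hd ?_
      rw [← alternatingGroup.index_eq_two (α := α)]
      exact Subgroup.index_dvd_of_le inf_le_left
    · exact hM.odd p hp h hpπ (hmul ▸ hd.mul_right _)
  have hB : (cls M a₀).card = b := rfl
  have hBc : (cls M a₀)ᶜ.card = n - b := by rw [Finset.card_compl, hB]
  have hBU : k = 1 → U b = cls M a₀ := fun h =>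
    (cls_eq_self_of_card (hsat b a₀ (memU.2 rfl)) (by rw [hk, h, mul_one, hB])).symm
  have hpi78 : b = 4 → ∀ r : ℕ, r.Prime → r ≤ n → (r ∈ π ↔ (r = 2 ∨ r = 3)) := by
    intro hb4 r hr hrn
    rw [hiff r hr hrn, hb4]
    refine ⟨fun h => ?_, by omega⟩
    have := hr.two_le
    rcases (show r = 2 ∨ r = 3 ∨ r = 4 by omega) with e | e | e
    · exact Or.inl e
    · exact Or.inr e
    · subst e; exact absurd hr (by decide)
  by_cases hex : ∃ a, f a = 3 ∧ b = 4
  · obtain ⟨a, ha, hb4⟩ := hex
    obtain ⟨-, hk', -, hU3, hD7⟩ := ((hvals a).resolve_left (by omega)).resolve_left (by omega)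
    have hU4 : (U b).card = 4 := by rw [hk, hk', hb4]
    have hsplit : n = (U b).card + (U 3).card + (U 1).card := by
      rw [← Finset.card_union_of_disjoint (Finset.disjoint_left.2 fun x h h' => by rw [memU] at h h'; omega),
        ← Finset.card_union_of_disjoint (Finset.disjoint_left.2 fun x h h' => by
          simp only [Finset.mem_union, memU] at h h'; omega), hndef, ← Finset.card_univ]
      congr 1
      ext x
      simp only [Finset.mem_univ, Finset.mem_union, memU, true_iff]
      have := hvals x
      omega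
    have h7 : n = 7 := by
      have h35 : n.choose 7 ∣ N.index := (dvd_mul_left _ _).trans hD7
      rcases (show n = 7 ∨ n = 8 ∨ n = 9 by omega) with e | e | e
      · exact e
      · rw [e] at h35
        exact absurd ((show 2 ∣ (8 : ℕ).choose 7 by decide).trans h35) (hindex 2 Nat.prime_two (by omega))
      · rw [e] at h35
        exact absurd ((show 2 ∣ (9 : ℕ).choose 7 by decide).trans h35) (hindex 2 Nat.prime_two (by omega))
    refine (fun h => ⟨cls M a₀, h.1, h.2, Or.inr ⟨Or.inl h7, hb4, hpi78 hb4⟩⟩) (finish (fun x hx => ?_) (by omega))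
    rw [hBc, h7, hb4]
    rcases card_cls_cases M x with e | e
    · exfalso
      have : 1 ≤ (U 1).card := Finset.card_pos.2 ⟨x, memU.2 e⟩
      omega
    · exact e
  push Not at hex
  have hvals' : ∀ a, f a = 1 ∨ f a = b := fun a => by
    rcases hvals a with h | h | ⟨h1, -, h3', -⟩
    exacts [Or.inl h, Or.inr h, absurd h1 (hex a h3')]
  have hsplit : n = b * k + (U 1).card := by
    rw [← hk, ← Finset.card_union_of_disjoint (Finset.disjoint_left.2 fun x h h' => by rw [memU] at h h'; omega),
      hndef, ← Finset.card_univ]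
    congr 1
    ext x
    simp only [Finset.mem_univ, Finset.mem_union, memU, true_iff]
    exact (hvals' x).symm
  have hch : n.choose (b * k) ∣ N.index := (dvd_mul_left _ _).trans hD₁
  rcases hk2 with rfl | ⟨rfl, hb4⟩
  · rw [mul_one] at hsplit hch
    rcases (show (U 1).card = 0 ∨ (U 1).card = 1 ∨ (U 1).card = 2 by omega) with e | e | e
    · exfalso
      obtain ⟨r, hr, hrn, hrπ⟩ := hns
      exact hrπ ((hiff r hr hrn).2 (by omega))
    · have hb1 : n = b + 1 := by omega
      have hprime : n.Prime := by
        rw [Nat.prime_def_minFac]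
        refine ⟨by omega, ?_⟩
        by_contra hne
        have hp := Nat.minFac_prime (n := n) (by omega)
        have hle := Nat.minFac_le (n := n) (by omega)
        refine hindex _ hp (by omega) ?_
        refine (Nat.minFac_dvd n).trans ?_
        rw [hb1] at hch ⊢
        rwa [Nat.choose_succ_self_right] at hch
      refine (fun h => ⟨cls M a₀, h.1, h.2, Or.inl ⟨hprime, by omega, fun r hr hrn => (hiff r hr hrn).trans (by omega)⟩⟩) (finish (fun x _ => ?_) (by omega))
      have := Finset.card_pos.2 ⟨x, self_mem_cls M x⟩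
      simp only [f] at *
      omega
    · exfalso
      have hb' : n = b + 2 := by omega
      rw [hb', Nat.choose_symm_add] at hch
      have := pair_lemma hb3 (le_refl 2) (by omega) fun p hp hpb hd => hindex p hp hpb (hd.trans hch)
      omega
  · rw [hb4] at hsplit hch
    have h8 : n = 8 := by
      rcases (show n = 8 ∨ n = 9 ∨ n = 10 by omega) with e | e | e
      · exact e
      · rw [e] at hch
        exact absurd ((show 3 ∣ (9 : ℕ).choose (4 * 2) by decide).trans hch) (hindex 3 Nat.prime_three (by omega))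
      · rw [e] at hch
        exact absurd ((show 3 ∣ (10 : ℕ).choose (4 * 2) by decide).trans hch) (hindex 3 Nat.prime_three (by omega))
    refine (fun h => ⟨cls M a₀, h.1, h.2, Or.inr ⟨Or.inr h8, hb4, hpi78 hb4⟩⟩) (finish (fun x hx => ?_) (by omega))
    rw [hBc]
    rcases hvals' x with e | e
    · exfalso
      have : 1 ≤ (U 1).card := Finset.card_pos.2 ⟨x, memU.2 e⟩
      omega
    · omega

end Cfsg.Lib.SymHall
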